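import Cfsg.Agent.Lib.Coprime.Solvable
import Cfsg.Agent.Lib.Coprime.Action
import Cfsg.Agent.Lib.Coprime.Core

/-!
# Generalities: fibres of equivariant maps, complements, actions on sections
-/

set_option autoImplicit false

open Subgroup

namespace CfsgLib.PGroup.ConjInvol

universe u

/-- A map to `T` away from one point, whose fibres over `T` are permuted transitively. -/
theorem card_fibre {α : Type u} [Finite α] {γ : Type*} (f : α → γ) (a0 : α) (T : Set γ) (hT : T.Finite)
    (ha0 : f a0 ∉ T) (hall : ∀ a, a ≠ a0 → f a ∈ T)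
    (hσ : ∀ v ∈ T, ∀ w ∈ T, ∃ σ : α → α, Function.Injective σ ∧ ∀ a, f a = v → f (σ a) = w) :
    ∀ v ∈ T, Nat.card α = 1 + T.ncard * Nat.card {a : α // f a = v} := by
  classical
  intro v hv
  haveI : Fintype α := Fintype.ofFinite α
  have heq : ∀ w ∈ T, Nat.card {a : α // f a = w} = Nat.card {a : α // f a = v} := by
    have hle : ∀ w ∈ T, ∀ w' ∈ T, Nat.card {a : α // f a = w} ≤ Nat.card {a : α // f a = w'} := by
      intro w hw w' hw'
      obtain ⟨σ, hσi, hσf⟩ := hσ w hw w' hw'
      exact Nat.card_le_card_of_injective (fun a => (⟨σ a.1, hσf _ a.2⟩ : {a : α // f a = w'}))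
        fun a b hab => Subtype.ext (hσi (congrArg Subtype.val hab))
    exact fun w hw => le_antisymm (hle w hw v hv) (hle v hv w hw)
  have h1 : (Finset.univ.erase a0).card =
      ∑ w ∈ hT.toFinset, ((Finset.univ.erase a0).filter fun a => f a = w).card :=
    Finset.card_eq_sum_card_fiberwise fun a ha =>
      hT.mem_toFinset.2 (hall a (Finset.ne_of_mem_erase ha))
  have h2 : ∀ w ∈ hT.toFinset, ((Finset.univ.erase a0).filter fun a => f a = w).card =
      Nat.card {a : α // f a = v} := by
    intro w hw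
    rw [← heq w (hT.mem_toFinset.1 hw), Nat.card_eq_fintype_card, Fintype.card_subtype]
    congr 1
    ext a
    simp only [Finset.mem_filter, Finset.mem_erase, Finset.mem_univ, and_true, true_and]
    exact ⟨fun h => h.2, fun h => ⟨fun e => ha0 (by rw [e] at h; rw [h]; exact hT.mem_toFinset.1 hw), h⟩⟩
  rw [Finset.sum_congr rfl h2, Finset.sum_const, smul_eq_mul, Finset.card_erase_of_mem (Finset.mem_univ a0),
    Finset.card_univ, ← Nat.card_eq_fintype_card, ← Set.ncard_eq_toFinset_card T hT] at h1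
  have := Nat.card_pos_iff.2 ⟨⟨a0⟩, (inferInstance : Finite α)⟩
  omega

variable {G : Type u} [Group G] [Finite G]

/-- `O_p(G / O_p(G)) = 1`. -/
theorem pCore_quotient_pCore {p : ℕ} [Fact p.Prime] (N : Subgroup G) [N.Normal] (hN : N = Cfsg.pCore p G) :
    Cfsg.pCore p (G ⧸ N) = ⊥ := by
  haveI : (Cfsg.pCore p (G ⧸ N)).Normal := CfsgLib.Coprime.pCore_normal' p
  set W := (Cfsg.pCore p (G ⧸ N)).comap (QuotientGroup.mk' N) with hW
  have hWp : IsPGroup p W :=
    (CfsgLib.Coprime.pCore_isPGroup p).comap_of_ker_isPGroup _ (by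
      rw [QuotientGroup.ker_mk', hN]; exact CfsgLib.Coprime.pCore_isPGroup p)
  have hle : W ≤ N := hN ▸ CfsgLib.Coprime.le_pCore hWp
  rw [← map_comap_eq_self_of_surjective (QuotientGroup.mk'_surjective N) (Cfsg.pCore p (G ⧸ N)),
    Subgroup.map_eq_bot_iff, QuotientGroup.ker_mk']
  exact hle

/-- A complement to a normal `p`-subgroup `N` in the preimage of `O_{p'}(G / N)`, normalized in every coset. -/
theorem exists_cover_complement {p : ℕ} [hp : Fact p.Prime] (N : Subgroup G) [N.Normal] (hN : IsPGroup p N) :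
    ∃ H : Subgroup G, (Nat.card H).Coprime p ∧ (Nat.card H).Coprime (Nat.card N) ∧
      H.map (QuotientGroup.mk' N) = Cfsg.pPrimeCore p (G ⧸ N) ∧
      ∀ a : G, ∃ v ∈ N, v * a ∈ normalizer (H : Set G) := by
  classical
  set Kb := Cfsg.pPrimeCore p (G ⧸ N) with hKb
  set M := Kb.comap (QuotientGroup.mk' N) with hM
  haveI : M.Normal := inferInstance
  have hNM : N ≤ M := QuotientGroup.le_comap_mk' N Kb
  obtain ⟨e, he⟩ := IsPGroup.iff_card.1 hN
  have hMcard : Nat.card M = Nat.card N * Nat.card Kb := by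
    rw [CfsgLib.Coprime.card_eq_card_mul_card_map_mk' N hNM, hM,
      map_comap_eq_self_of_surjective (QuotientGroup.mk'_surjective N)]
  have hKbp : (Nat.card Kb).Coprime p := CfsgLib.Coprime.pPrimeCore_coprime hp.out
  have hc : Nat.card (N.subgroupOf M) = Nat.card N := Nat.card_congr (subgroupOfEquivOfLe hNM).toEquiv
  obtain ⟨K1, hK1⟩ := Subgroup.exists_right_complement'_of_coprime (N := N.subgroupOf M) (by
    have hi : (N.subgroupOf M).index = Nat.card Kb := by
      have h1 := (N.subgroupOf M).card_mul_index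
      rw [hc, hMcard] at h1
      exact Nat.eq_of_mul_eq_mul_left Nat.card_pos h1
    rw [hc, hi, he]
    exact hKbp.symm.pow_left e)
  set H := K1.map M.subtype with hHdef
  have hHcard : Nat.card H = Nat.card Kb := by
    rw [hHdef, Subgroup.card_map_of_injective M.subtype_injective]
    have h1 := hK1.card_mul
    rw [hc, hMcard] at h1
    exact Nat.eq_of_mul_eq_mul_left Nat.card_pos h1
  have hcop : (Nat.card H).Coprime (Nat.card N) := by rw [hHcard, he]; exact hKbp.pow_right e
  have hHN : H ≤ normalizer (N : Set G) := by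
    rw [normalizer_eq_top_iff.2 (inferInstance : N.Normal)]; exact le_top
  have hMsup : M ≤ H ⊔ N := by
    intro x hx
    have h1 : (⟨x, hx⟩ : M) ∈ N.subgroupOf M ⊔ K1 := by rw [hK1.sup_eq_top]; exact mem_top _
    obtain ⟨y, hy, z, hz, hyz⟩ := mem_sup_of_normal_left.1 h1
    rw [show x = (y : G) * z from congrArg Subtype.val hyz.symm, sup_comm]
    exact mul_mem_sup hy ⟨z, hz, rfl⟩
  refine ⟨H, hHcard ▸ hKbp, hcop, le_antisymm ?_ ?_, fun a => ?_⟩
  · rintro _ ⟨_, ⟨m, -, rfl⟩, rfl⟩
    exact m.2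
  · intro q hq
    obtain ⟨x, rfl⟩ := QuotientGroup.mk'_surjective N q
    obtain ⟨k, hk, w, hw, rfl⟩ := CfsgLib.Coprime.mem_sup_exists hHN
      (show x ∈ N ⊔ H by rw [sup_comm]; exact hMsup hq)
    exact ⟨w, hw, by rw [map_mul, show QuotientGroup.mk' N k = 1 from (QuotientGroup.eq_one_iff k).2 hk, one_mul]⟩
  · have hconj : CfsgLib.Coprime.conjBy a H ≤ H ⊔ N := by
      refine le_trans ?_ hMsup
      rintro _ ⟨k, hk, rfl⟩
      obtain ⟨m, -, rfl⟩ := hk
      exact (inferInstance : M.Normal).conj_mem _ m.2 a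
    obtain ⟨x, hxN, hx⟩ := CfsgLib.Coprime.sz_conj_in hHN hcop.symm hconj
      (CfsgLib.Coprime.card_conjBy a H) (Or.inr (by
        haveI := hN.isNilpotent
        exact CfsgLib.Coprime.isSolvable_of_isNilpotent hN.isNilpotent))
    rw [CfsgLib.Coprime.conjBy_conjBy, CfsgLib.Coprime.conjBy_eq_self_iff] at hx
    exact ⟨x, hxN, hx⟩

/-- Conjugation on the quotient of a normal subgroup `D` by a normal subgroup `V`. -/
noncomputable def sectionAct (D V : Subgroup G) [hD : D.Normal] [hV : V.Normal] :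
    G →* MulAut (↥D ⧸ V.subgroupOf D) where
  toFun g := QuotientGroup.congr (V.subgroupOf D) (V.subgroupOf D) (MulAut.conjNormal g) (by
    refine Subgroup.eq_of_le_of_card_ge ?_ (le_of_eq ?_)
    · rintro _ ⟨x, hx, rfl⟩
      rw [Subgroup.mem_subgroupOf]
      show ((MulAut.conjNormal g x : D) : G) ∈ V
      rw [MulAut.conjNormal_apply]
      exact hV.conj_mem _ (Subgroup.mem_subgroupOf.1 hx) g
    · exact (Subgroup.card_map_of_injective (MulAut.conjNormal g).injective).symm)
  map_one' := by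
    ext x
    obtain ⟨d, rfl⟩ := QuotientGroup.mk_surjective x
    simp
  map_mul' g h := by
    ext x
    obtain ⟨d, rfl⟩ := QuotientGroup.mk_surjective x
    simp [MulAut.mul_apply]

theorem sectionAct_mk (D V : Subgroup G) [D.Normal] [V.Normal] (g : G) (d : D) :
    sectionAct D V g (QuotientGroup.mk' (V.subgroupOf D) d) =
      QuotientGroup.mk' (V.subgroupOf D) (MulAut.conjNormal g d) := rfl

end CfsgLib.PGroup.ConjInvol
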