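import Mathlib.GroupTheory.Index
import Mathlib.GroupTheory.OrderOfElement
import Mathlib.Algebra.Group.End
import Mathlib.Tactic.Ring
import Mathlib.Data.Fintype.Prod

/-!
# Dihedral configurations on an elementary abelian `2`-group

`n` independent dihedral pairs acting faithfully need order `4 ^ n`; in the case of equality some element of
odd order moves only a four group.
-/

set_option autoImplicit false

open Subgroup

namespace CfsgLib.PGroup.ConjInvol

universe u

variable {M : Type u} [CommGroup M]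

/-- `m ↦ m⁻¹ * f m`. -/
def mov (f : MulAut M) : M →* M where
  toFun m := m⁻¹ * f m
  map_one' := by simp
  map_mul' a b := by rw [mul_inv, map_mul]; exact mul_mul_mul_comm a⁻¹ b⁻¹ (f a) (f b)

theorem mov_apply (f : MulAut M) (m : M) : mov f m = m⁻¹ * f m := rfl

theorem mem_ker_mov {f : MulAut M} {m : M} : m ∈ (mov f).ker ↔ f m = m := by
  rw [MonoidHom.mem_ker, mov_apply, inv_mul_eq_one, eq_comm]

theorem apply_of_mul_eq {g g' f f' : MulAut M} (h : g * f = f' * g') (m : M) :
    g (f m) = f' (g' m) := by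
  have := congrArg (fun a : MulAut M => a m) h
  simpa [MulAut.mul_apply] using this

/-- `N` is invariant under `f`. -/
def Inv (N : Subgroup M) (f : MulAut M) : Prop := ∀ m ∈ N, f m ∈ N

theorem mov_mem {N : Subgroup M} {f : MulAut M} (h : Inv N f) {m : M} (hm : m ∈ N) : mov f m ∈ N :=
  mul_mem (inv_mem hm) (h m hm)

theorem map_mov_le {N : Subgroup M} {f : MulAut M} (h : Inv N f) : N.map (mov f) ≤ N := by
  rintro _ ⟨m, hm, rfl⟩
  exact mov_mem h hm

variable [Finite M]

theorem card_mov (N : Subgroup M) (f : MulAut M) :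
    Nat.card N = Nat.card ↥(N ⊓ (mov f).ker) * Nat.card (N.map (mov f)) := by
  have h := card_mul_index ((mov f).ker.subgroupOf N)
  have h1 : Nat.card ((mov f).ker.subgroupOf N) = Nat.card ↥(N ⊓ (mov f).ker) := by
    rw [← Subgroup.card_map_of_injective N.subtype_injective, subgroupOf_map_subtype, inf_comm]
  have h2 : ((mov f).ker.subgroupOf N).index = Nat.card (N.map (mov f)) := by
    rw [show (mov f).ker.subgroupOf N = ((mov f).comp N.subtype).ker from rfl, index_ker]
    congr 1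
    · rw [MonoidHom.range_comp, range_subtype]
  rw [h1, h2] at h
  exact h.symm

/-- An element of odd order fixes no nontrivial element it moves to. -/
theorem eq_one_of_mov_fixed (hM : ∀ m : M, m ^ 2 = 1) {f : MulAut M} (hf : Odd (orderOf f)) {a : M}
    (h : f (mov f a) = mov f a) : mov f a = 1 := by
  set w := mov f a with hw
  have hfa : f a = a * w := by rw [hw, mov_apply, mul_inv_cancel_left]
  have key : ∀ k : ℕ, (f ^ k) a = a * w ^ k := by
    intro k
    induction k with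
    | zero => simp
    | succ k ih => rw [pow_succ', MulAut.mul_apply, ih, map_mul, map_pow, h, hfa, pow_succ', mul_assoc]
  have h1 := key (orderOf f)
  rw [pow_orderOf_eq_one, MulAut.one_apply, left_eq_mul] at h1
  obtain ⟨k, hk⟩ := hf
  rwa [hk, pow_succ, pow_mul, hM, one_pow, one_mul] at h1

theorem ker_inf_map_mov (hM : ∀ m : M, m ^ 2 = 1) (N : Subgroup M) {f : MulAut M} (hf : Odd (orderOf f)) :
    (mov f).ker ⊓ N.map (mov f) = ⊥ := by
  rw [eq_bot_iff]
  rintro x ⟨hx, a, -, rfl⟩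
  exact mem_bot.2 (eq_one_of_mov_fixed hM hf (mem_ker_mov.1 hx))

theorem exists_decomp (hM : ∀ m : M, m ^ 2 = 1) {N : Subgroup M} {f : MulAut M} (hi : Inv N f)
    (hf : Odd (orderOf f)) {m : M} (hm : m ∈ N) :
    ∃ w ∈ N.map (mov f), m * w⁻¹ ∈ N ⊓ (mov f).ker := by
  let R := N.map (mov f)
  have hR : ∀ w ∈ R, mov f w ∈ R := fun w hw => mem_map_of_mem _ (map_mov_le hi hw)
  let φ : R → R := fun w => ⟨mov f w, hR w w.2⟩
  have hinj : Function.Injective φ := by
    intro a b hab
    have h1 : mov f ((a : M) * (b : M)⁻¹) = 1 := by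
      rw [map_mul, map_inv, show mov f (a : M) = mov f (b : M) from congrArg Subtype.val hab,
        mul_inv_cancel]
    have h2 : (a : M) * (b : M)⁻¹ ∈ (mov f).ker ⊓ R := Subgroup.mem_inf.2 ⟨h1, R.mul_mem a.2 (R.inv_mem b.2)⟩
    rw [ker_inf_map_mov hM N hf, mem_bot, mul_inv_eq_one] at h2
    exact Subtype.ext h2
  obtain ⟨w, hw⟩ := Finite.surjective_of_injective hinj ⟨mov f m, mem_map_of_mem _ hm⟩
  refine ⟨w, w.2, Subgroup.mem_inf.2 ⟨N.mul_mem hm (N.inv_mem (map_mov_le hi w.2)), ?_⟩⟩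
  rw [MonoidHom.mem_ker, map_mul, map_inv, ← show mov f (w : M) = mov f m from congrArg Subtype.val hw,
    mul_inv_cancel]

variable {ι : Type*}

/-- Commuting elements `x i` of odd order, each inverted by its own involution `e i`. -/
structure Config (s : Finset ι) (e x : ι → MulAut M) : Prop where
  esq : ∀ i ∈ s, e i * e i = 1
  ecomm : ∀ i ∈ s, ∀ j ∈ s, e i * e j = e j * e i
  xcomm : ∀ i ∈ s, ∀ j ∈ s, x i * x j = x j * x i
  xodd : ∀ i ∈ s, Odd (orderOf (x i))
  inv : ∀ i ∈ s, e i * x i = (x i)⁻¹ * e i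
  fix : ∀ i ∈ s, ∀ j ∈ s, i ≠ j → e i * x j = x j * e i

omit [Finite M] in
theorem Config.subset {s t : Finset ι} {e x : ι → MulAut M} (h : Config s e x) (hts : t ⊆ s) :
    Config t e x :=
  ⟨fun i hi => h.esq i (hts hi), fun i hi j hj => h.ecomm i (hts hi) j (hts hj),
    fun i hi j hj => h.xcomm i (hts hi) j (hts hj), fun i hi => h.xodd i (hts hi),
    fun i hi => h.inv i (hts hi), fun i hi j hj => h.fix i (hts hi) j (hts hj)⟩

omit [Finite M] in
theorem commute_mov {g f : MulAut M} (h : g * f = f * g) (m : M) : g (mov f m) = mov f (g m) := by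
  rw [mov_apply, mov_apply, map_mul, map_inv, apply_of_mul_eq h]

/-- The fixed part and the moved part of a commuting automorphism are invariant. -/
theorem inv_parts {g f : MulAut M} (h : g * f = f * g) {N : Subgroup M} (hg : Inv N g) :
    Inv (N ⊓ (mov f).ker) g ∧ Inv (N.map (mov f)) g := by
  refine ⟨fun m hm => ⟨hg m hm.1, mem_ker_mov.2 ?_⟩, ?_⟩
  · rw [← apply_of_mul_eq h, mem_ker_mov.1 hm.2]
  · rintro _ ⟨m, hm, rfl⟩
    exact ⟨g m, hg m hm, (commute_mov h m).symm⟩

theorem inv_parts_of_inv {g f : MulAut M} (h : g * f = f⁻¹ * g) {N : Subgroup M} (hg : Inv N g)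
    (hf : Inv N f) : Inv (N ⊓ (mov f).ker) g ∧ Inv (N.map (mov f)) g := by
  have hfi : ∀ m ∈ N, f⁻¹ m ∈ N := by
    intro m hm
    obtain ⟨k, hk⟩ := Finite.surjective_of_injective
      (f := fun a : N => (⟨f a, hf a a.2⟩ : N))
      (fun a b hab => Subtype.ext (f.injective (congrArg Subtype.val hab))) ⟨m, hm⟩
    have : f (k : M) = m := congrArg Subtype.val hk
    rw [← this, ← MulAut.mul_apply, inv_mul_cancel, MulAut.one_apply]
    exact k.2
  have e1 : ∀ m, f (f⁻¹ m) = m := fun m => by rw [← MulAut.mul_apply, mul_inv_cancel, MulAut.one_apply]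
  have e2 : ∀ m, f⁻¹ (f m) = m := fun m => by rw [← MulAut.mul_apply, inv_mul_cancel, MulAut.one_apply]
  refine ⟨fun m hm => ⟨hg m hm.1, mem_ker_mov.2 ?_⟩, ?_⟩
  · have h1 := apply_of_mul_eq h m
    rw [mem_ker_mov.1 hm.2] at h1
    have h2 := congrArg f h1
    rwa [e1] at h2
  · rintro _ ⟨m, hm, rfl⟩
    refine ⟨(f⁻¹ (g m))⁻¹, inv_mem (hfi _ (hg m hm)), ?_⟩
    rw [map_inv, mov_apply, mov_apply, e1, map_mul, map_inv, apply_of_mul_eq h, mul_inv, inv_inv, mul_comm]

/-- The analysis of the part moved by one element of a configuration. -/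
theorem Config.moved (hM : ∀ m : M, m ^ 2 = 1) {s : Finset ι} {e x : ι → MulAut M} (h : Config s e x)
    {N : Subgroup M} (hNe : ∀ i ∈ s, Inv N (e i)) (hNx : ∀ i ∈ s, Inv N (x i)) {i : ι} (hi : i ∈ s)
    {C : Subgroup M} (hC : C = N.map (mov (x i)) ⊓ (mov (e i)).ker) :
    Nat.card (N.map (mov (x i))) = Nat.card C * Nat.card C ∧
      (∀ a ∈ C, ∀ b ∈ C, x i a = b → a = 1) ∧
      (∀ j ∈ s, j ≠ i → Inv C (e j) ∧ Inv C (x j) ∧
        ((∀ m ∈ C, x j m = m) → ∀ m ∈ N.map (mov (x i)), x j m = m)) := by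
  subst hC
  set N1 := N.map (mov (x i)) with hN1
  set C := N1 ⊓ (mov (e i)).ker with hC
  have hee : ∀ m, e i (e i m) = m := fun m => by
    rw [← MulAut.mul_apply, h.esq i hi, MulAut.one_apply]
  have hN1e : Inv N1 (e i) := (inv_parts_of_inv (h.inv i hi) (hNe i hi) (hNx i hi)).2
  have hN1x : Inv N1 (x i) := (inv_parts rfl (hNx i hi)).2
  have hfix : ∀ a ∈ N1, x i a = a → a = 1 := fun a ha hxa => by
    have h1 : a ∈ (mov (x i)).ker ⊓ N1 := ⟨mem_ker_mov.2 hxa, ha⟩
    rw [ker_inf_map_mov hM N (h.xodd i hi), mem_bot] at h1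
    exact h1
  have hdis : ∀ a ∈ C, ∀ b ∈ C, x i a = b → a = 1 := by
    intro a ha b hb hab
    have hxi : (x i)⁻¹ a = x i a := by
      have h1 := apply_of_mul_eq (h.inv i hi) a
      rw [hab, mem_ker_mov.1 hb.2, mem_ker_mov.1 ha.2] at h1
      rw [hab]; exact h1.symm
    have h2 : x i (x i a) = a := by
      rw [← hxi, ← MulAut.mul_apply, mul_inv_cancel, MulAut.one_apply]
    have h3 : ∀ k : ℕ, ((x i) ^ (2 * k)) a = a := by
      intro k
      induction k with
      | zero => simp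
      | succ k ih => rw [Nat.mul_succ, pow_add, MulAut.mul_apply, pow_two, MulAut.mul_apply, h2, ih]
    obtain ⟨k, hk⟩ := h.xodd i hi
    refine hfix a ha.1 ?_
    have h4 : ((x i) ^ (2 * k + 1)) a = x i a := by
      rw [pow_succ', MulAut.mul_apply, h3]
    rw [← hk, pow_orderOf_eq_one, MulAut.one_apply] at h4
    exact h4.symm
  have hle : N1.map (mov (e i)) ≤ C := by
    rintro _ ⟨m, hm, rfl⟩
    refine ⟨mov_mem hN1e hm, mem_ker_mov.2 ?_⟩
    rw [mov_apply, map_mul, map_inv, hee, mul_comm]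
    have hinv : ∀ y : M, y⁻¹ = y := fun y => by rw [inv_eq_iff_mul_eq_one, ← pow_two, hM]
    rw [hinv, hinv]
  have hup : Nat.card N1 ≤ Nat.card C * Nat.card C := by
    rw [card_mov N1 (e i)]
    exact Nat.mul_le_mul_left _ (Nat.le_of_dvd Nat.card_pos (card_dvd_of_le hle))
  let ψ : C × C → N1 := fun p => ⟨(p.1 : M) * x i p.2, mul_mem p.1.2.1 (hN1x _ p.2.2.1)⟩
  have hψ : Function.Injective ψ := by
    rintro ⟨a, b⟩ ⟨a', b'⟩ hab
    have h1 : (a : M) * x i b = a' * x i b' := congrArg Subtype.val hab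
    have h2 : x i ((b : M) * (b' : M)⁻¹) = (a : M)⁻¹ * a' := by
      have e3 : x i (b : M) = (a : M)⁻¹ * a' * x i b' := by rw [mul_assoc, ← h1, inv_mul_cancel_left]
      rw [map_mul, map_inv, e3, mul_inv_cancel_right]
    have h3 := hdis _ (mul_mem b.2 (inv_mem b'.2)) _ (mul_mem (inv_mem a.2) a'.2) h2
    have hb : b = b' := Subtype.ext (mul_inv_eq_one.1 h3)
    subst hb
    exact Prod.ext (Subtype.ext (mul_right_cancel h1)) rfl
  have hcard : Nat.card N1 = Nat.card C * Nat.card C :=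
    le_antisymm hup (Nat.card_prod C C ▸ Nat.card_le_card_of_injective ψ hψ)
  have hsurj : Function.Surjective ψ :=
    (hψ.bijective_of_nat_card_le (by rw [Nat.card_prod, hcard])).2
  refine ⟨hcard, hdis, fun j hj hji => ⟨?_, ?_, ?_⟩⟩
  · exact (inv_parts (h.ecomm j hj i hi) ((inv_parts (h.fix j hj i hi hji) (hNe j hj)).2)).1
  · exact (inv_parts (h.fix i hi j hj (Ne.symm hji)).symm ((inv_parts (h.xcomm j hj i hi) (hNx j hj)).2)).1
  · intro hall m hm
    obtain ⟨⟨a, b⟩, hab⟩ := hsurj ⟨m, hm⟩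
    rw [← show (a : M) * x i b = m from congrArg Subtype.val hab, map_mul, hall a a.2,
      apply_of_mul_eq (h.xcomm j hj i hi), hall b b.2]

/-- A configuration of size `k` needs order `4 ^ k`. -/
theorem Config.four_pow_le (hM : ∀ m : M, m ^ 2 = 1) {e x : ι → MulAut M} :
    ∀ (s : Finset ι), Config s e x → ∀ N : Subgroup M, (∀ i ∈ s, Inv N (e i)) → (∀ i ∈ s, Inv N (x i)) →
      (∀ i ∈ s, ∃ m ∈ N, x i m ≠ m) → 4 ^ s.card ≤ Nat.card N := by
  classical
  intro s
  induction s using Finset.strongInduction with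
  | _ s ih =>
  intro h N hNe hNx hne
  rcases s.eq_empty_or_nonempty with rfl | ⟨i, hi⟩
  · rw [Finset.card_empty, pow_zero]; exact Nat.card_pos
  set N1 := N.map (mov (x i))
  set C := N1 ⊓ (mov (e i)).ker with hC
  set F := N ⊓ (mov (x i)).ker
  obtain ⟨hcard, hdis, hrest⟩ := h.moved hM hNe hNx hi hC
  set A := (s.erase i).filter fun j => ∃ m ∈ N1, x j m ≠ m with hA
  set B := (s.erase i).filter fun j => ¬ ∃ m ∈ N1, x j m ≠ m with hB
  have hAB : A.card + B.card = (s.erase i).card := Finset.card_filter_add_card_filter_not _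
  have hlt : ∀ t ⊆ s.erase i, t ⊂ s := fun t ht =>
    lt_of_le_of_lt ht (Finset.erase_ssubset hi)
  have hAs : A ⊆ s.erase i := Finset.filter_subset _ _
  have hBs : B ⊆ s.erase i := Finset.filter_subset _ _
  have hmem : ∀ {t : Finset ι}, t ⊆ s.erase i → ∀ j ∈ t, j ∈ s ∧ j ≠ i := fun ht j hj =>
    ⟨Finset.mem_of_mem_erase (ht hj), Finset.ne_of_mem_erase (ht hj)⟩
  have hCle : 4 ^ A.card ≤ Nat.card C := by
    refine ih A (hlt A hAs) (h.subset fun j hj => (hmem hAs j hj).1) C (fun j hj => ?_) (fun j hj => ?_)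
      fun j hj => ?_
    · exact (hrest j (hmem hAs j hj).1 (hmem hAs j hj).2).1
    · exact (hrest j (hmem hAs j hj).1 (hmem hAs j hj).2).2.1
    · obtain ⟨m, hm, hne'⟩ := (Finset.mem_filter.1 hj).2
      by_contra hcon
      push Not at hcon
      exact hne' ((hrest j (hmem hAs j hj).1 (hmem hAs j hj).2).2.2 hcon m hm)
  have hFle : 4 ^ B.card ≤ Nat.card F := by
    refine ih B (hlt B hBs) (h.subset fun j hj => (hmem hBs j hj).1) F (fun j hj => ?_) (fun j hj => ?_)
      fun j hj => ?_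
    · exact (inv_parts (h.fix j (hmem hBs j hj).1 i hi (hmem hBs j hj).2) (hNe j (hmem hBs j hj).1)).1
    · exact (inv_parts (h.xcomm j (hmem hBs j hj).1 i hi) (hNx j (hmem hBs j hj).1)).1
    · obtain ⟨hjs, hji⟩ := hmem hBs j hj
      obtain ⟨m, hm, hne'⟩ := hne j hjs
      obtain ⟨w, hw, hmw⟩ := exists_decomp hM (hNx i hi) (h.xodd i hi) hm
      refine ⟨_, hmw, fun heq => hne' ?_⟩
      have hxw : x j w = w := by
        have h' := (Finset.mem_filter.1 hj).2
        push Not at h'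
        exact h' w hw
      rw [map_mul, map_inv, hxw, mul_left_inj] at heq
      exact heq
  have hC2 : 2 ≤ Nat.card C := by
    by_contra hlt2
    have h1 : Nat.card C = 1 := by have := Nat.card_pos (α := C); omega
    rw [h1, one_mul] at hcard
    obtain ⟨m, hm, hne'⟩ := hne i hi
    have h2 : mov (x i) m ∈ N1 := mem_map_of_mem _ hm
    rw [show N1 = ⊥ from eq_bot_of_card_eq _ hcard, mem_bot] at h2
    exact hne' (mem_ker_mov.1 h2)
  have hN : Nat.card N = Nat.card F * (Nat.card C * Nat.card C) := by rw [card_mov N (x i), hcard]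
  rw [hN]
  have hs : s.card = A.card + B.card + 1 := by rw [hAB, Finset.card_erase_add_one hi]
  rw [hs, pow_succ, pow_add]
  calc 4 ^ A.card * 4 ^ B.card * 4 = 4 ^ B.card * (4 * 4 ^ A.card) := by ring
    _ ≤ Nat.card F * (Nat.card C * Nat.card C) := by
      refine Nat.mul_le_mul hFle ?_
      rcases Nat.eq_zero_or_pos A.card with h0 | h0
      · rw [h0, pow_zero, mul_one]; exact Nat.mul_le_mul hC2 hC2
      · exact Nat.mul_le_mul ((Nat.le_self_pow h0.ne' 4).trans hCle) hCle

end CfsgLib.PGroup.ConjInvol
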