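import Cfsg.Agent.Lib.Coprime.Action
import Cfsg.Agent.Lib.PGroup.CocyclicCentralizers

/-!
# Independent dihedral pairs in a coprime action of an elementary abelian `2`-group

An elementary abelian `2`-group of order `2 ^ n` acting faithfully on a nilpotent group of odd order yields
`n` independent dihedral pairs.
-/

set_option autoImplicit false

open Subgroup

namespace CfsgLib.PGroup.ConjInvol

universe u

variable {X : Type u} [Group X] [Finite X]

/-- An element centralizing the Sylow subgroups of a nilpotent subgroup centralizes it. -/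
theorem le_of_sylow_le {R W : Subgroup X}
    (h : ∀ l : ℕ, ∀ [Fact l.Prime], ∀ P : Sylow l R, (P : Subgroup R).map R.subtype ≤ W) : R ≤ W := by
  classical
  have hdvd : Nat.card R ∣ Nat.card ↥(R ⊓ W) := by
    rw [← Nat.factorization_le_iff_dvd Nat.card_pos.ne' Nat.card_pos.ne']
    intro l
    by_cases hl : l.Prime
    · haveI : Fact l.Prime := ⟨hl⟩
      let P : Sylow l R := default
      have h1 : (P : Subgroup R).map R.subtype ≤ R ⊓ W := le_inf (map_subtype_le _) (h l P)
      have h2 := card_dvd_of_le h1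
      rw [Subgroup.card_map_of_injective R.subtype_injective, P.card_eq_multiplicity] at h2
      exact (hl.pow_dvd_iff_le_factorization Nat.card_pos.ne').1 h2
    · rw [Nat.factorization_eq_zero_of_not_prime _ hl]; exact Nat.zero_le _
  exact inf_eq_left.1 (Subgroup.eq_of_le_of_card_ge inf_le_left (Nat.le_of_dvd Nat.card_pos hdvd))

theorem conj_inv_of {x b : X} (hb : b * b = 1) (h : b * x * b⁻¹ = x⁻¹) : b * x = x⁻¹ * b :=
  mul_inv_eq_iff_eq_mul.1 h

/-- `n` independent dihedral pairs. -/
theorem exists_pairs (E : Subgroup X) (hEc : ∀ a ∈ E, ∀ b ∈ E, a * b = b * a)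
    (hE2 : ∀ a ∈ E, a * a = 1) : ∀ (n : ℕ) (E' R : Subgroup X), E' ≤ E → E ≤ normalizer (R : Set X) →
      Odd (Nat.card R) → Group.IsNilpotent R → (∀ b ∈ E', b ∈ centralizer (R : Set X) → b = 1) →
      2 ^ n ≤ Nat.card E' →
      ∃ e x : Fin n → X, (∀ i, e i ∈ E' ∧ x i ∈ R ∧ x i ≠ 1) ∧ (∀ i j, x i * x j = x j * x i) ∧
        (∀ i, ∀ b ∈ E, b * x i * b⁻¹ = x i ∨ b * x i * b⁻¹ = (x i)⁻¹) ∧
        (∀ i, e i * x i * (e i)⁻¹ = (x i)⁻¹) ∧ (∀ i j, i ≠ j → e i * x j * (e i)⁻¹ = x j) := by
  classical
  intro n
  induction n with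
  | zero =>
    intro E' R _ _ _ _ _ _
    exact ⟨Fin.elim0, Fin.elim0, fun i => i.elim0, fun i => i.elim0, fun i => i.elim0, fun i => i.elim0,
      fun i => i.elim0⟩
  | succ n ih =>
    intro E' R hE' hER hodd hnil hfaith hcard
    have hinvE : ∀ a ∈ E, a⁻¹ = a := fun a ha => inv_eq_of_mul_eq_one_right (hE2 a ha)
    have hcop : (Nat.card E).Coprime (Nat.card R) := by
      obtain ⟨k, hk⟩ := IsPGroup.iff_card.1 (show IsPGroup 2 E from fun g => ⟨1, Subtype.ext (by
        rw [SubgroupClass.coe_pow, pow_one, pow_two]; exact hE2 g g.2)⟩)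
      rw [hk]
      exact (Nat.Coprime.pow_left k (Nat.coprime_two_left.2 hodd))
    have hcommE : IsMulCommutative E :=
      isMulCommutative_iff.2 fun a b => Subtype.ext (hEc a a.2 b b.2)
    -- a hyperplane whose centralizer is not centralized by `E'`
    obtain ⟨B, ⟨hBE, c, hcE, hBc⟩, hB⟩ : ∃ B ∈ cocyclicSubgroups E,
        ¬ R ⊓ centralizer (B : Set X) ≤ centralizer (E' : Set X) := by
      by_contra hcon
      push Not at hcon
      have hR := (coprime_cocyclic_generation hcommE hER hcop).1
      have h1 : R ≤ centralizer (E' : Set X) := hR.ge.trans (iSup₂_le hcon)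
      have h2 : E' ≤ ⊥ := fun b hb => mem_bot.2 (hfaith b hb (le_centralizer_iff.1 h1 hb))
      have h3 := Nat.le_of_dvd Nat.card_pos (card_dvd_of_le h2)
      rw [Subgroup.card_bot] at h3
      have : 2 ≤ 2 ^ (n + 1) := Nat.le_self_pow (by omega) 2
      omega
    obtain ⟨h, hh, hhn⟩ := SetLike.not_le_iff_exists.1 hB
    obtain ⟨hhR, hhB⟩ := Subgroup.mem_inf.1 hh
    obtain ⟨a, ha, hah⟩ : ∃ a ∈ E', a * h ≠ h * a := by
      by_contra hcon
      push Not at hcon
      exact hhn (mem_centralizer_iff.2 fun a ha => hcon a ha)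
    have haE := hE' ha
    have haB : a ∉ B := fun h1 => hah (mem_centralizer_iff.1 hhB a h1)
    have hsplit : ∀ b ∈ E, b ∈ B ∨ b * a ∈ B := by
      have hCc : ∀ b ∈ E, b ∈ B ∨ b * c ∈ B := by
        intro b hb
        rw [← hBc] at hb
        obtain ⟨u, hu, w, hw, rfl⟩ := CfsgLib.Coprime.mem_sup_exists
          ((zpowers_le.2 (mem_centralizer_iff.2 fun d hd => (hEc d (hBE hd) c hcE))).trans
            (centralizer_le_normalizer _)) hb
        obtain ⟨k, rfl⟩ := mem_zpowers_iff.1 hw
        rcases Int.even_or_odd k with ⟨m, rfl⟩ | ⟨m, rfl⟩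
        · left
          rw [zpow_add, ← (Commute.refl c).mul_zpow, hE2 c hcE, one_zpow, mul_one]
          exact hu
        · right
          rw [zpow_add_one, two_mul, zpow_add, ← (Commute.refl c).mul_zpow, hE2 c hcE, one_zpow, one_mul,
            mul_assoc, hE2 c hcE, mul_one]
          exact hu
      intro b hb
      rcases hCc b hb with h1 | h1
      · exact Or.inl h1
      rcases hCc a haE with h2 | h2
      · exact absurd h2 haB
      right
      have h3 := mul_mem h1 h2
      rwa [show b * c * (a * c) = b * a * (c * c) by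
        rw [hEc a haE c hcE]; simp only [mul_assoc]
        rw [← mul_assoc c c a, hE2 c hcE, one_mul, mul_one], hE2 c hcE, mul_one] at h3
    set y0 := h⁻¹ * (a * h * a⁻¹) with hy0
    have hy0R : y0 ∈ R := mul_mem (inv_mem hhR) (CfsgLib.Coprime.conj_mem_of_le_normalizer hER haE hhR)
    have hay : a * y0 * a⁻¹ = y0⁻¹ := by
      rw [hy0, hinvE a haE]
      calc a * (h⁻¹ * (a * h * a)) * a = a * h⁻¹ * a * h * (a * a) := by simp only [mul_assoc]
        _ = (h⁻¹ * (a * h * a))⁻¹ := by
          rw [hE2 a haE, mul_one, mul_inv_rev, mul_inv_rev, mul_inv_rev, hinvE a haE, inv_inv]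
          simp only [mul_assoc]
    have hy1 : y0 ≠ 1 := fun h0 => hah (by
      rw [hy0, inv_mul_eq_one] at h0
      rw [eq_mul_inv_iff_mul_eq] at h0
      exact h0.symm)
    have hBy : ∀ b ∈ B, b * y0 * b⁻¹ = y0 := by
      intro b hb
      have hbh : b * h * b⁻¹ = h := mul_inv_eq_iff_eq_mul.2 (mem_centralizer_iff.1 hhB b hb)
      have hba : b * a * b⁻¹ = a := mul_inv_eq_iff_eq_mul.2 (hEc b (hBE hb) a haE)
      rw [hy0]
      have : b * (h⁻¹ * (a * h * a⁻¹)) * b⁻¹ =
          (b * h * b⁻¹)⁻¹ * ((b * a * b⁻¹) * (b * h * b⁻¹) * (b * a * b⁻¹)⁻¹) := by group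
      rw [this, hbh, hba]
    -- reduce to prime order
    have hord1 : orderOf y0 ≠ 1 := fun h0 => hy1 (orderOf_eq_one_iff.1 h0)
    obtain ⟨r, hr, hrdvd⟩ := Nat.exists_prime_and_dvd hord1
    haveI : Fact r.Prime := ⟨hr⟩
    set x0 := y0 ^ (orderOf y0 / r) with hx0
    have hx0R : x0 ∈ R := pow_mem hy0R _
    have hord : orderOf x0 = r := orderOf_pow_orderOf_div (orderOf_pos y0).ne' hrdvd
    have hx01 : x0 ≠ 1 := fun h0 => hr.ne_one (by rw [← hord, h0, orderOf_one])
    have hax : a * x0 * a⁻¹ = x0⁻¹ := by rw [hx0, ← conj_pow, hay, inv_pow]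
    have hBx : ∀ b ∈ B, b * x0 * b⁻¹ = x0 := fun b hb => by rw [hx0, ← conj_pow, hBy b hb]
    have hEx : ∀ b ∈ E, b * x0 * b⁻¹ = x0 ∨ b * x0 * b⁻¹ = x0⁻¹ := by
      intro b hb
      rcases hsplit b hb with h1 | h1
      · exact Or.inl (hBx b h1)
      · right
        have h2 := hBx _ h1
        calc b * x0 * b⁻¹ = b * a * (a⁻¹ * x0 * a) * (b * a)⁻¹ := by group
          _ = b * a * x0⁻¹ * (b * a)⁻¹ := by
            rw [hinvE a haE]; nth_rewrite 3 [← hinvE a haE]; rw [hax]
          _ = x0⁻¹ := by rw [← inv_inj, conj_inv, inv_inv]; exact h2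
    set E'' := E' ⊓ B with hE''
    set R' := R ⊓ centralizer ({x0} : Set X) with hR'
    have hER' : E ≤ normalizer (R' : Set X) := by
      refine CfsgLib.Coprime.inf_le_normalizer hER fun b hb => ?_
      have key : ∀ d ∈ E, ∀ z ∈ centralizer ({x0} : Set X), d * z * d⁻¹ ∈ centralizer ({x0} : Set X) := by
        intro d hd z hz
        rw [mem_centralizer_singleton_iff] at hz ⊢
        have hz' : Commute z x0 := hz
        rcases hEx d hd with h1 | h1
        · have h2 := hz'.map (MulAut.conj d).toMonoidHom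
          simp only [MulEquiv.coe_toMonoidHom, MulAut.conj_apply, h1] at h2
          exact h2
        · have h2 := hz'.map (MulAut.conj d).toMonoidHom
          simp only [MulEquiv.coe_toMonoidHom, MulAut.conj_apply, h1] at h2
          exact Commute.inv_right_iff.1 h2
      refine Subgroup.mem_normalizer_iff.2 fun z => ⟨key b hb z, fun h1 => ?_⟩
      have h2 := key _ (inv_mem hb) _ h1
      simpa [mul_assoc] using h2
    have hR'R : R' ≤ R := inf_le_left
    have hnil' : Group.IsNilpotent R' := by
      haveI := hnil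
      exact Group.nilpotent_of_mulEquiv (Subgroup.subgroupOfEquivOfLe hR'R)
    have hfaith' : ∀ b ∈ E'', b ∈ centralizer (R' : Set X) → b = 1 := by
      intro b hb hbC
      obtain ⟨hbE', hbB⟩ := Subgroup.mem_inf.1 hb
      have hbE := hE' hbE'
      refine hfaith b hbE' ?_
      have hzc : R ≤ centralizer (zpowers b : Set X) := by
        haveI := hnil
        refine le_of_sylow_le fun l _ P => ?_
        haveI hPn : (P : Subgroup R).Normal := Sylow.normal_of_normalizerCondition normalizerCondition_of_isNilpotent P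
        have hbn : b ∈ normalizer (R : Set X) := hER hbE
        have hQn : ∀ d, d ∈ normalizer (R : Set X) → ∀ z ∈ (P : Subgroup R).map R.subtype,
            d * z * d⁻¹ ∈ (P : Subgroup R).map R.subtype := by
          rintro d hd _ ⟨z, hz, rfl⟩
          have hdz : d * z * d⁻¹ ∈ R := (Subgroup.mem_normalizer_iff.1 hd _).1 z.2
          refine ⟨⟨d * z * d⁻¹, hdz⟩, ?_, rfl⟩
          have hlz : IsPGroup l (zpowers (⟨d * z * d⁻¹, hdz⟩ : R)) := by
            obtain ⟨k, hk⟩ := P.2 ⟨z, hz⟩
            have hk' : (z : X) ^ l ^ k = 1 := congrArg (fun u : (P : Subgroup R) => ((u : R) : X)) hk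
            refine IsPGroup.of_card (n := (Nat.card (zpowers (⟨d * z * d⁻¹, hdz⟩ : R))).factorization l) ?_
            obtain ⟨j, -, hj⟩ := (Nat.dvd_prime_pow (Fact.out : l.Prime)).1
              (orderOf_dvd_of_pow_eq_one (x := (⟨d * z * d⁻¹, hdz⟩ : R)) (n := l ^ k) (Subtype.ext (by
                rw [SubgroupClass.coe_pow, OneMemClass.coe_one]
                show (d * z * d⁻¹) ^ l ^ k = 1
                rw [conj_pow, hk', mul_one, mul_inv_cancel])))
            rw [Nat.card_zpowers, hj, (Fact.out : l.Prime).factorization_pow, Finsupp.single_eq_same]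
          exact sup_eq_left.1 (P.3 (P.2.to_sup_of_normal_left hlz) le_sup_left)
            (mem_zpowers _)
        have hQnorm : ∀ d, d ∈ normalizer (R : Set X) →
            d ∈ normalizer (((P : Subgroup R).map R.subtype : Subgroup X) : Set X) := by
          intro d hd
          refine Subgroup.mem_normalizer_iff.2 fun z => ⟨hQn d hd z, fun h1 => ?_⟩
          have h2 := hQn _ (inv_mem hd) _ h1
          simpa [mul_assoc] using h2
        rw [le_centralizer_iff]
        by_cases hlr : l = r
        · subst hlr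
          refine CfsgLib.Coprime.pq_lemma (P := zpowers x0) ?_ ?_ (P.2.map R.subtype) ?_ ?_ ?_ ?_
          · exact IsPGroup.of_card (n := 1) (by rw [Nat.card_zpowers, hord, pow_one])
          · rw [Nat.card_zpowers]
            refine Nat.Coprime.coprime_dvd_left (orderOf_dvd_of_pow_eq_one (n := 2) (by
              rw [pow_two]; exact hE2 b hbE)) ?_
            refine Nat.coprime_two_left.2 (Odd.of_dvd_nat hodd ?_)
            rw [← hord]
            exact Subgroup.orderOf_dvd_natCard R hx0R
          · rw [zpowers_le, mem_centralizer_iff]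
            intro w hw
            obtain ⟨k, rfl⟩ := mem_zpowers_iff.1 hw
            exact (Commute.zpow_left (mul_inv_eq_iff_eq_mul.1 (hBx b hbB) : Commute b x0) k).eq
          · exact zpowers_le.2 (hQnorm _ (Subgroup.le_normalizer hx0R))
          · exact zpowers_le.2 (hQnorm _ hbn)
          · intro z hz
            refine mem_centralizer_iff.2 fun w hw => ?_
            have hzR' : z ∈ R' := Subgroup.mem_inf.2 ⟨map_subtype_le _ hz.1, mem_centralizer_singleton_iff.2
              (mem_centralizer_iff.1 hz.2 x0 (mem_zpowers x0)).symm⟩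
            obtain ⟨k, rfl⟩ := mem_zpowers_iff.1 hw
            exact (Commute.zpow_left ((mem_centralizer_iff.1 hbC z hzR').symm : Commute b z) k).eq
        · rw [zpowers_le, mem_centralizer_iff]
          rintro _ ⟨z, hz, rfl⟩
          refine mem_centralizer_iff.1 hbC _ (Subgroup.mem_inf.2 ⟨z.2, ?_⟩)
          rw [mem_centralizer_singleton_iff]
          let P' : Sylow r R := default
          haveI : (P' : Subgroup R).Normal :=
            Sylow.normal_of_normalizerCondition normalizerCondition_of_isNilpotent P'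
          have hxP : (⟨x0, hx0R⟩ : R) ∈ (P' : Subgroup R) := by
            refine sup_eq_left.1 (P'.3 (P'.2.to_sup_of_normal_left (IsPGroup.of_card (n := 1) ?_)) le_sup_left)
              (mem_zpowers _)
            rw [Nat.card_zpowers, ← orderOf_injective R.subtype R.subtype_injective, pow_one]
            exact hord
          exact congrArg Subtype.val (Subgroup.commute_of_normal_of_disjoint _ _ hPn inferInstance
            (IsPGroup.disjoint_of_ne l r hlr _ _ P.2 P'.2) z ⟨x0, hx0R⟩ hz hxP).eq
      refine mem_centralizer_iff.2 fun z hz => ?_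
      exact (mem_centralizer_iff.1 (hzc hz) b (mem_zpowers b)).symm
    have hcard' : 2 ^ n ≤ Nat.card E'' := by
      have h1 : Nat.card E' ≤ 2 * Nat.card E'' := by
        have hmem : ∀ u : E', (u : X) * (if (u : X) ∈ B then 1 else a) ∈ E'' := by
          intro u
          split_ifs with hu
          · rw [mul_one]; exact Subgroup.mem_inf.2 ⟨u.2, hu⟩
          · exact Subgroup.mem_inf.2 ⟨mul_mem u.2 ha, (hsplit u (hE' u.2)).resolve_left hu⟩
        rw [show (2 : ℕ) = Nat.card Bool by simp, ← Nat.card_prod]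
        refine Nat.card_le_card_of_injective
          (fun u : E' => (decide ((u : X) ∈ B), (⟨_, hmem u⟩ : E''))) fun u v huv => ?_
        have h1 := congrArg Prod.fst huv
        have h2 := congrArg (fun p : Bool × E'' => (p.2 : X)) huv
        simp only [decide_eq_decide] at h1
        simp only [h1] at h2
        exact Subtype.ext (mul_right_cancel h2)
      rw [pow_succ] at hcard
      omega
    obtain ⟨e, x, hex, hxc, hEinv, hinv, hfix⟩ :=
      ih E'' R' (inf_le_left.trans hE') hER' (Odd.of_dvd_nat hodd (card_dvd_of_le hR'R)) hnil' hfaith' hcard'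
    -- adjust `a` to fix the other `x i`
    have hflip : ∀ t : Finset (Fin n), ∃ b ∈ E'', ∀ j,
        b * x j * b⁻¹ = if j ∈ t then (x j)⁻¹ else x j := by
      intro t
      induction t using Finset.induction with
      | empty => exact ⟨1, one_mem _, fun j => by simp⟩
      | @insert i t hit iht =>
        obtain ⟨b, hb, hbj⟩ := iht
        refine ⟨e i * b, mul_mem (hex i).1 hb, fun j => ?_⟩
        rw [show e i * b * x j * (e i * b)⁻¹ = e i * (b * x j * b⁻¹) * (e i)⁻¹ by group, hbj]
        rcases eq_or_ne i j with rfl | hij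
        · rw [if_neg hit, if_pos (Finset.mem_insert_self i t), hinv]
        · by_cases hjt : j ∈ t
          · rw [if_pos hjt, if_pos (Finset.mem_insert_of_mem hjt), ← conj_inv, hfix i j hij]
          · rw [if_neg hjt, if_neg (by simp [hij.symm, hjt]), hfix i j hij]
    obtain ⟨b, hb, hbj⟩ := hflip (Finset.univ.filter fun j => a * x j * a⁻¹ ≠ x j)
    obtain ⟨hbE', hbB⟩ := Subgroup.mem_inf.1 hb
    have he0 : ∀ j, a * b * x j * (a * b)⁻¹ = x j := by
      intro j
      rw [show a * b * x j * (a * b)⁻¹ = a * (b * x j * b⁻¹) * a⁻¹ by group, hbj]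
      by_cases hj : a * x j * a⁻¹ = x j
      · rw [if_neg (by simp [hj]), hj]
      · rw [if_pos (by simp [hj]), ← conj_inv, (hEinv j a haE).resolve_left hj, inv_inv]
    have he00 : a * b * x0 * (a * b)⁻¹ = x0⁻¹ := by
      rw [show a * b * x0 * (a * b)⁻¹ = a * (b * x0 * b⁻¹) * a⁻¹ by group, hBx b hbB, hax]
    have hxx0 : ∀ j, x j * x0 = x0 * x j := fun j =>
      mem_centralizer_singleton_iff.1 (hex j).2.1.2
    refine ⟨Fin.cons (a * b) e, Fin.cons x0 x, ?_, ?_, ?_, ?_, ?_⟩
    · refine Fin.cases ?_ ?_
      · exact ⟨by simpa using mul_mem ha hbE', by simpa using hx0R, by simpa using hx01⟩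
      · intro i
        simp only [Fin.cons_succ]
        exact ⟨(hex i).1.1, hR'R (hex i).2.1, (hex i).2.2⟩
    · refine Fin.cases (Fin.cases ?_ ?_) fun i => Fin.cases ?_ ?_
      · rfl
      · intro j; simpa using (hxx0 j).symm
      · simpa using hxx0 i
      · intro j; simpa using hxc i j
    · refine Fin.cases ?_ ?_
      · simpa using hEx
      · intro i; simpa using hEinv i
    · refine Fin.cases ?_ ?_
      · simpa using he00
      · intro i; simpa using hinv i
    · refine Fin.cases (Fin.cases ?_ ?_) fun i => Fin.cases ?_ ?_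
      · exact fun h0 => absurd rfl h0
      · intro j _; simpa using he0 j
      · intro _; simpa using hBx _ (hex i).1.2
      · intro j hij; simpa using hfix i j fun h0 => hij (by rw [h0])

end CfsgLib.PGroup.ConjInvol
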