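import Cfsg.Agent.Lib.PGroup.ConjInvol.Small
import Cfsg.Agent.Lib.PGroup.ConjInvol.Pairs
import Cfsg.Agent.Lib.PGroup.ConjInvol.Cover
import Cfsg.Agent.Lib.PGroup.SmallElementsIndex
import Cfsg.Agent.Lib.CFun.Critical
import Cfsg.Agent.Lib.PGroup.QuadraticSquares
import Cfsg.Agent.Lib.Coprime.Fitting

/-!
# Solvable groups in which all involutions are conjugate

With a trivial odd core and more than one involution, such a group has a normal Sylow `2`-subgroup
(a theorem of J. G. Thompson).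
-/

set_option autoImplicit false
set_option maxHeartbeats 1000000
set_option linter.style.haveILetI false

open Subgroup
open scoped commutatorElement

namespace CfsgLib.PGroup.ConjInvol

universe u

theorem odd_index_pCore {G : Type u} [Group G] [Finite G] [Group.IsSolvable G]
    (hO : Cfsg.pPrimeCore 2 G = ⊥)
    (htwo : ∃ x y : G, x ≠ y ∧ x ≠ 1 ∧ x ^ 2 = 1 ∧ y ≠ 1 ∧ y ^ 2 = 1)
    (hconj : ∀ x y : G, x ≠ 1 → x ^ 2 = 1 → y ≠ 1 → y ^ 2 = 1 → IsConj x y) :
    ¬ 2 ∣ (Cfsg.pCore 2 G).index := by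
  classical
  haveI : Fact (Nat.Prime 2) := ⟨Nat.prime_two⟩
  set T := Cfsg.pCore 2 G with hT
  haveI hTn : T.Normal := CfsgLib.Coprime.pCore_normal' 2
  have hTp : IsPGroup 2 T := CfsgLib.Coprime.pCore_isPGroup 2
  have hCT : centralizer (T : Set G) ≤ T := CfsgLib.Coprime.centralizer_pCore_le hO
  intro hindex
  -- the involutions form a central subgroup of `T`
  obtain ⟨x1, y1, hxy, hx1, hx2, hy1, hy2⟩ := htwo
  obtain ⟨z0, hz0T, hz01, hz02, hz0c⟩ :
      ∃ z0 ∈ T, z0 ≠ 1 ∧ z0 ^ 2 = 1 ∧ ∀ t ∈ T, Commute z0 t := by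
    have hT1 : T ≠ ⊥ := by
      intro h0
      refine hx1 (mem_bot.1 (h0 ▸ hCT (mem_centralizer_iff.2 fun t ht => ?_)))
      rw [h0] at ht
      rw [mem_bot.1 ht, one_mul, mul_one]
    haveI : Nontrivial T := (Subgroup.nontrivial_iff_ne_bot T).2 hT1
    haveI := hTp.center_nontrivial
    obtain ⟨k, hk⟩ := IsPGroup.iff_card.1 (hTp.to_subgroup (center T))
    have h2 : 2 ∣ Nat.card (center T) := by
      rcases k with _ | k
      · rw [pow_zero] at hk
        have := Finite.one_lt_card (α := center T)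
        omega
      · rw [hk]; exact dvd_pow_self 2 (by omega)
    obtain ⟨z, hz⟩ := exists_prime_orderOf_dvd_card' 2 h2
    have hz' : orderOf ((z : T) : G) = 2 := by
      rw [← hz, ← orderOf_injective (T.subtype.comp (center T).subtype)
        (fun a b h => Subtype.ext (Subtype.ext h)) z]
      rfl
    refine ⟨((z : T) : G), (z : T).2, fun h0 => ?_, by rw [← hz']; exact pow_orderOf_eq_one _, fun t ht => ?_⟩
    · rw [h0, orderOf_one] at hz'
      omega
    · exact (congrArg Subtype.val (Subgroup.mem_center_iff.1 z.2 ⟨t, ht⟩)).symm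
  have hinv : ∀ w : G, w ^ 2 = 1 → w ∈ T ∧ ∀ t ∈ T, Commute w t := by
    intro w hw
    rcases eq_or_ne w 1 with rfl | hw1
    · exact ⟨one_mem _, fun t _ => Commute.one_left t⟩
    obtain ⟨g, hg⟩ := isConj_iff.1 (hconj z0 w hz01 hz02 hw1 hw)
    refine ⟨hg ▸ hTn.conj_mem _ hz0T g, fun t ht => ?_⟩
    have h1 := (hz0c _ (hTn.conj_mem' t ht g)).map (MulAut.conj g).toMonoidHom
    simp only [MulEquiv.coe_toMonoidHom, MulAut.conj_apply] at h1
    rw [show g * (g⁻¹ * t * g) * g⁻¹ = t by group, hg] at h1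
    exact h1
  let V : Subgroup G :=
    { carrier := {x | x ^ 2 = 1}
      one_mem' := one_pow 2
      mul_mem' := fun {a b} ha hb => by
        show (a * b) ^ 2 = 1
        rw [((hinv a ha).2 b (hinv b hb).1).mul_pow, show a ^ 2 = 1 from ha, show b ^ 2 = 1 from hb, one_mul]
      inv_mem' := fun {a} ha => by
        show a⁻¹ ^ 2 = 1
        rw [inv_pow, show a ^ 2 = 1 from ha, inv_one] }
  have hmemV : ∀ {x : G}, x ∈ V ↔ x ^ 2 = 1 := Iff.rfl
  haveI hVn : V.Normal := ⟨fun a ha g => by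
    show (g * a * g⁻¹) ^ 2 = 1
    rw [conj_pow, show a ^ 2 = 1 from ha, mul_one, mul_inv_cancel]⟩
  have hVT : V ≤ T := fun v hv => (hinv v hv).1
  have hVc : ∀ v ∈ V, ∀ t ∈ T, Commute v t := fun v hv => (hinv v hv).2
  have hVcomm : ∀ a ∈ V, ∀ b ∈ V, a * b = b * a := fun a ha b hb => hVc a ha b (hVT hb)
  obtain ⟨n, hn⟩ := IsPGroup.iff_card.1 (show IsPGroup 2 V from fun v => ⟨1, Subtype.ext (by
    rw [SubgroupClass.coe_pow, pow_one]; exact v.2)⟩)
  have hn2 : 2 ≤ n := by
    have hinj : Function.Injective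
        (![(1 : V), ⟨x1, hx2⟩, ⟨y1, hy2⟩] : Fin 3 → V) := by
      intro i j hij
      have hij' := congrArg (fun v : V => (v : G)) hij
      fin_cases i <;> fin_cases j <;> simp [-Subtype.mk.injEq] at hij' ⊢ <;>
        first | exact hx1 hij'.symm | exact hy1 hij'.symm | exact hx1 hij' | exact hy1 hij' | exact hxy hij' |
          exact hxy hij'.symm
    have h3 := Nat.card_le_card_of_injective _ hinj
    rw [Nat.card_fin, hn] at h3
    by_contra hlt
    have : 2 ^ n ≤ 2 ^ 1 := Nat.pow_le_pow_right (by norm_num) (by omega)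
    omega
  set C := centralizer (V : Set G) with hC
  haveI hCn : C.Normal := ⟨fun c hc g => mem_centralizer_iff.2 fun v hv => by
    have h1 := mem_centralizer_iff.1 hc _ (hVn.conj_mem' v hv g)
    calc v * (g * c * g⁻¹) = g * ((g⁻¹ * v * g) * c) * g⁻¹ := by group
      _ = g * (c * (g⁻¹ * v * g)) * g⁻¹ := by rw [h1]
      _ = g * c * g⁻¹ * v := by group⟩
  have hTC : T ≤ C := fun t ht => mem_centralizer_iff.2 fun v hv => (hVc v hv t ht).eq
  have hCfix : ∀ c ∈ C, ∀ v ∈ V, c * v * c⁻¹ = v := fun c hc v hv =>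
    mul_inv_eq_iff_eq_mul.2 (mem_centralizer_iff.1 hc v hv).symm
  have htrans : ∀ Y : Subgroup G, (∀ g : G, ∃ c ∈ C, c * g ∈ Y) → ∀ v ∈ V, v ≠ 1 → ∀ w ∈ V, w ≠ 1 →
      ∃ y ∈ Y, y * v * y⁻¹ = w := by
    intro Y hY v hv hv1 w hw hw1
    obtain ⟨g, hg⟩ := isConj_iff.1 (hconj v w hv1 hv hw1 hw)
    obtain ⟨c, hc, hcg⟩ := hY g
    refine ⟨c * g, hcg, ?_⟩
    rw [show c * g * v * (c * g)⁻¹ = c * (g * v * g⁻¹) * c⁻¹ by group, hg]
    exact hCfix c hc w hw
  have hfull : ∀ Y : Subgroup G, (∀ g : G, ∃ c ∈ C, c * g ∈ Y) → ∀ A : Subgroup G, A ≤ V → A ≠ ⊥ →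
      (∀ y ∈ Y, ∀ a ∈ A, y * a * y⁻¹ ∈ A) → V ≤ A := by
    intro Y hY A hAV hA1 hYA w hw
    rcases eq_or_ne w 1 with rfl | hw1
    · exact one_mem A
    obtain ⟨a, ha, ha1⟩ : ∃ a ∈ A, a ≠ 1 := by
      by_contra hcon
      push Not at hcon
      exact hA1 (eq_bot_iff.2 fun a ha => mem_bot.2 (hcon a ha))
    obtain ⟨y, hy, hyw⟩ := htrans Y hY a (hAV ha) ha1 w hw hw1
    exact hyw ▸ hYA y hy a ha
  -- a complement for the odd core modulo `T`
  obtain ⟨H, hHodd, hHcop, hHmap, hHcov⟩ := exists_cover_complement (p := 2) T hTp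
  replace hHodd : Odd (Nat.card H) := Nat.coprime_two_right.1 hHodd
  set N := normalizer (H : Set G) with hN
  have hcovN : ∀ g : G, ∃ c ∈ C, c * g ∈ N := fun g => by
    obtain ⟨v, hv, hv'⟩ := hHcov g
    exact ⟨v, hTC hv, hv'⟩
  have hHTn : H ≤ normalizer (T : Set G) := by
    rw [normalizer_eq_top_iff.2 hTn]; exact le_top
  have hTN : ∀ t ∈ T, t ∈ N → t ∈ centralizer (H : Set G) := fun t ht htN =>
    CfsgLib.Coprime.mem_centralizer_of_mem_normalizer hHTn hHcop ht htN
  have hHC : H ≤ C := by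
    by_contra hHC
    have hFH : V ⊓ centralizer (H : Set G) = ⊥ := by
      by_contra hne
      refine hHC fun h hh => mem_centralizer_iff.2 fun v hv => ?_
      have h1 := hfull N hcovN _ inf_le_left hne (fun y hy a ha => Subgroup.mem_inf.2
        ⟨hVn.conj_mem _ ha.1 y, (Subgroup.mem_normalizer_iff.1
          (CfsgLib.Coprime.normalizer_le_normalizer_centralizer H hy) a).1 ha.2⟩) hv
      exact (mem_centralizer_iff.1 h1.2 h hh).symm
    have hNodd : ¬ 2 ∣ Nat.card N := by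
      intro h2
      obtain ⟨v, hv⟩ := exists_prime_orderOf_dvd_card' 2 h2
      have hv2 : orderOf (v : G) = 2 := by rw [Subgroup.orderOf_coe]; exact hv
      have hvV : (v : G) ∈ V := hmemV.2 (hv2 ▸ pow_orderOf_eq_one (v : G))
      have h1 : (v : G) ∈ V ⊓ centralizer (H : Set G) :=
        Subgroup.mem_inf.2 ⟨hvV, hTN _ (hVT hvV) v.2⟩
      rw [hFH, mem_bot] at h1
      rw [h1, orderOf_one] at hv2
      omega
    refine hNodd (dvd_trans hindex ?_)
    rw [index_eq_card]
    refine Subgroup.card_dvd_of_surjective ((QuotientGroup.mk' T).comp N.subtype) fun q => ?_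
    obtain ⟨g, rfl⟩ := QuotientGroup.mk'_surjective T q
    obtain ⟨v, hv, hv'⟩ := hHcov g
    refine ⟨⟨v * g, hv'⟩, ?_⟩
    show QuotientGroup.mk' T (v * g) = QuotientGroup.mk' T g
    rw [map_mul, show QuotientGroup.mk' T v = 1 from (QuotientGroup.eq_one_iff v).2 hv, one_mul]
  have hcore : Cfsg.pCore 2 (G ⧸ T) = ⊥ := pCore_quotient_pCore T rfl
  have hH1 : H ≠ ⊥ := by
    intro h0
    rw [h0, Subgroup.map_bot] at hHmap
    have h1 := CfsgLib.Coprime.centralizer_pCore_le (G := G ⧸ T) (p := 2) hHmap.symm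
    rw [hcore] at h1
    have htop : (⊤ : Subgroup (G ⧸ T)) ≤ ⊥ := fun q _ => h1 (mem_centralizer_iff.2 fun b hb => by
      rw [mem_bot.1 hb, one_mul, mul_one])
    rw [index_eq_card, ← Subgroup.card_top] at hindex
    have h2 := hindex.trans (card_dvd_of_le htop)
    rw [Subgroup.card_bot] at h2
    omega
  -- the critical subgroup
  obtain ⟨A, hAT, hAn, -, hApow, hAcc, hTA, hTcen, hAaut⟩ := CfsgLib.CFun.exists_critical_in hTp
  haveI := hAn
  let D := CfsgLib.PGroup.smallSubgroup A hApow hAcc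
  have hmemD : ∀ {x : G}, x ∈ D ↔ x ∈ A ∧ x ^ 4 = 1 := fun {x} => Iff.rfl
  haveI hDn : D.Normal := ⟨fun x hx g => hmemD.2 ⟨hAn.conj_mem _ (hmemD.1 hx).1 g, by
    rw [conj_pow, (hmemD.1 hx).2, mul_one, mul_inv_cancel]⟩⟩
  have hDT : D ≤ T := fun x hx => hAT (hmemD.1 hx).1
  have hVcenA : ∀ v ∈ V, v ∈ CfsgLib.CFun.cen A := fun v hv => by
    rw [← hTcen]
    exact Subgroup.mem_inf.2 ⟨hVT hv, mem_centralizer_iff.2 fun a ha => (hVc v hv a (hAT ha)).eq.symm⟩
  have hVD : V ≤ D := fun v hv => hmemD.2 ⟨(hVcenA v hv).1, by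
    rw [show (4 : ℕ) = 2 * 2 from rfl, pow_mul, hmemV.1 hv, one_pow]⟩
  have hDsq : ∀ d ∈ D, d ^ 2 ∈ V := fun d hd => hmemV.2 (by rw [← pow_mul]; exact (hmemD.1 hd).2)
  have hDcomm : ∀ a ∈ D, ∀ b ∈ D, ⁅a, b⁆ ∈ V := by
    intro a ha b hb
    obtain ⟨haA, -⟩ := hmemD.1 ha
    obtain ⟨hbA, -⟩ := hmemD.1 hb
    have hc : Commute ⁅a, b⁆ b := (show Commute b ⁅a, b⁆ from
      mem_centralizer_iff.1 (hAcc (commutator_mem_commutator haA hbA)) b hbA).symm
    have hb2 : a * b ^ 2 * a⁻¹ = b ^ 2 :=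
      mul_inv_eq_iff_eq_mul.2 (mem_centralizer_iff.1 (hApow b hbA).2 a haA)
    refine hmemV.2 ?_
    have h1 : (⁅a, b⁆ * b) ^ 2 = b ^ 2 := by
      rw [show ⁅a, b⁆ * b = a * b * a⁻¹ by rw [commutatorElement_def]; group, conj_pow, hb2]
    rw [hc.mul_pow] at h1
    exact mul_eq_right.1 h1
  -- the section `D / V`
  let M := ↥D ⧸ V.subgroupOf D
  let mk : ↥D →* M := QuotientGroup.mk' (V.subgroupOf D)
  have mk_one : ∀ d : D, mk d = 1 ↔ (d : G) ∈ V := fun d =>
    (QuotientGroup.eq_one_iff d).trans Subgroup.mem_subgroupOf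
  have hmk : Function.Surjective mk := QuotientGroup.mk'_surjective _
  letI : CommGroup M := { (inferInstance : Group M) with
    mul_comm := fun a b => by
      obtain ⟨a, rfl⟩ := hmk a
      obtain ⟨b, rfl⟩ := hmk b
      show mk a * mk b = mk b * mk a
      rw [← commutatorElement_eq_one_iff_mul_comm, ← map_commutatorElement, mk_one]
      exact hDcomm a a.2 b b.2 }
  have hM2 : ∀ m : M, m ^ 2 = 1 := fun m => by
    obtain ⟨d, rfl⟩ := hmk m
    rw [← map_pow, mk_one, SubgroupClass.coe_pow]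
    exact hDsq d d.2
  letI : CommGroup V := { (inferInstance : Group V) with
    mul_comm := fun a b => Subtype.ext (hVcomm a a.2 b b.2) }
  have hV2 : ∀ v : V, v * v = 1 := fun v => Subtype.ext (by
    show (v : G) * v = 1
    rw [← pow_two]; exact v.2)
  let q : M → V := Quotient.lift (fun d : D => (⟨(d : G) ^ 2, hDsq d d.2⟩ : V)) (by
    intro a b hab
    have h1 : (a : G)⁻¹ * b ∈ V := Subgroup.mem_subgroupOf.1 (QuotientGroup.leftRel_apply.1 hab)
    refine Subtype.ext ?_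
    show (a : G) ^ 2 = (b : G) ^ 2
    conv_rhs => rw [show (b : G) = (a : G) * ((a : G)⁻¹ * b) by group]
    rw [((hVc _ h1 a (hDT a.2)).symm).mul_pow, hmemV.1 h1, mul_one])
  have hq_mk : ∀ d : D, (q (mk d) : G) = (d : G) ^ 2 := fun _ => rfl
  have hq1 : q 1 = 1 := Subtype.ext (by
    rw [← map_one mk, hq_mk, OneMemClass.coe_one, one_pow, OneMemClass.coe_one])
  have hq : ∀ m, q m = 1 → m = 1 := fun m hm => by
    obtain ⟨d, rfl⟩ := hmk m
    rw [mk_one]
    exact hmemV.2 (by rw [← hq_mk, hm, OneMemClass.coe_one])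
  let β : M → M → V := fun a b => q (a * b) * (q a * q b)
  have hqm : ∀ a b, q (a * b) = q a * q b * β a b := fun a b => by
    show _ = q a * q b * (q (a * b) * (q a * q b))
    rw [mul_left_comm, hV2, mul_one]
  have hβval : ∀ a b : D, (β (mk a) (mk b) : G) = ⁅(b : G), (a : G)⁆ := by
    intro a b
    have hcen := hVc _ (hDcomm b b.2 a a.2)
    have h1 : ((a : G) * b) ^ 2 = ⁅(b : G), (a : G)⁆ * ((a : G) ^ 2 * (b : G) ^ 2) := by
      calc ((a : G) * b) ^ 2 = (a : G) * ⁅(b : G), (a : G)⁆ * ((a : G) * b * b) := by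
            rw [pow_two, commutatorElement_def]; group
        _ = ⁅(b : G), (a : G)⁆ * (a : G) * ((a : G) * b * b) := by rw [(hcen a (hDT a.2)).eq]
        _ = _ := by rw [pow_two, pow_two]; simp only [mul_assoc]
    have h2 : ((a : G) ^ 2 * (b : G) ^ 2) * ((a : G) ^ 2 * (b : G) ^ 2) = 1 := by
      rw [← pow_two]; exact hmemV.1 (mul_mem (hDsq a a.2) (hDsq b b.2))
    show (q (mk a * mk b) : G) * ((q (mk a) : G) * (q (mk b) : G)) = _
    rw [← map_mul, hq_mk, hq_mk, hq_mk, Subgroup.coe_mul, h1, mul_assoc, h2, mul_one]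
  have hβ : ∀ a b c, β a (b * c) = β a b * β a c := by
    intro a b c
    obtain ⟨a, rfl⟩ := hmk a
    obtain ⟨b, rfl⟩ := hmk b
    obtain ⟨c, rfl⟩ := hmk c
    refine Subtype.ext ?_
    show (β (mk a) (mk b * mk c) : G) = (β (mk a) (mk b) : G) * (β (mk a) (mk c) : G)
    rw [show mk b * mk c = mk (b * c) from (map_mul mk b c).symm]
    refine (hβval a (b * c)).trans (Eq.trans ?_ (congrArg₂ (· * ·) (hβval a b) (hβval a c)).symm)
    rw [Subgroup.coe_mul]
    have h1 := hVc _ (hDcomm c c.2 a a.2) b (hDT b.2)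
    calc ⁅(b : G) * c, (a : G)⁆ = (b : G) * ⁅(c : G), (a : G)⁆ * (b : G)⁻¹ * ⁅(b : G), (a : G)⁆ := by
          simp only [commutatorElement_def]; group
      _ = ⁅(c : G), (a : G)⁆ * ⁅(b : G), (a : G)⁆ := by rw [← h1.eq, mul_inv_cancel_right]
      _ = ⁅(b : G), (a : G)⁆ * ⁅(c : G), (a : G)⁆ := hVcomm _ (hDcomm c c.2 a a.2) _ (hDcomm b b.2 a a.2)
  let act : G →* MulAut M := sectionAct D V
  have hact : ∀ (g : G) (d : D), act g (mk d) = mk (MulAut.conjNormal g d) := sectionAct_mk D V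
  have hq_act : ∀ (g : G) (m : M), (q (act g m) : G) = g * (q m : G) * g⁻¹ := fun g m => by
    obtain ⟨d, rfl⟩ := hmk m
    rw [hact, hq_mk, hq_mk, MulAut.conjNormal_apply, conj_pow]
  have hqC : ∀ c ∈ C, ∀ m, q (act c m) = q m := fun c hc m => Subtype.ext (by
    rw [hq_act]; exact hCfix c hc _ (q m).2)
  -- faithfulness
  have hfaith : ∀ g : G, Odd (orderOf g) → g ∈ C → (∀ m, act g m = m) → g = 1 := by
    intro g hg hgC hgm
    have hfixD : ∀ d ∈ D, Commute g d := by
      intro d hd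
      have h1 : mk (MulAut.conjNormal g ⟨d, hd⟩ * ⟨d, hd⟩⁻¹) = 1 := by
        rw [map_mul, map_inv, ← hact, hgm, mul_inv_cancel]
      rw [mk_one, Subgroup.coe_mul, MulAut.conjNormal_apply, Subgroup.coe_inv] at h1
      have hu := CfsgLib.Coprime.eq_one_of_conj_eq_mul (a := g) (x := d) (u := g * d * g⁻¹ * d⁻¹)
        (by group) (hCfix g hgC _ h1)
        ((Nat.coprime_two_right.2 hg).coprime_dvd_right (orderOf_dvd_of_pow_eq_one (hmemV.1 h1)))
      exact mul_inv_eq_iff_eq_mul.1 (mul_inv_eq_one.1 hu)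
    have hgA : g ∈ centralizer (A : Set G) :=
      CfsgLib.PGroup.commute_of_fix_smallExp (hTp.to_le hAT) (by rw [normalizer_eq_top_iff.2 hAn]; exact mem_top g)
        (fun h => by
          have := Odd.of_dvd_nat hg h
          exact (Nat.not_even_iff_odd.2 this) even_two)
        (fun x hx hx4 => hfixD x (hmemD.2 ⟨hx, hx4⟩))
    have hφ : (MulAut.conjNormal g : MulAut T) = 1 := by
      refine hAaut _ ?_ fun a ha => Subtype.ext ?_
      · exact (Nat.coprime_two_right.2 hg).coprime_dvd_left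
          (orderOf_map_dvd (MulAut.conjNormal : G →* MulAut T) g)
      · rw [MulAut.conjNormal_apply]
        exact mul_inv_eq_iff_eq_mul.2 (mem_centralizer_iff.1 hgA _ ha).symm
    have hgT : g ∈ T := hCT (mem_centralizer_iff.2 fun t ht => by
      have h1 := congrArg (fun f : MulAut T => ((f ⟨t, ht⟩ : T) : G)) hφ
      simp only [MulAut.conjNormal_apply, MulAut.one_apply] at h1
      exact (mul_inv_eq_iff_eq_mul.1 h1).symm)
    obtain ⟨k, hk⟩ := hTp ⟨g, hgT⟩
    have hk' : g ^ 2 ^ k = 1 := congrArg Subtype.val hk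
    exact orderOf_eq_one_iff.1 (Nat.eq_one_of_dvd_coprimes ((Nat.coprime_two_right.2 hg).pow_right k)
      dvd_rfl (orderOf_dvd_of_pow_eq_one hk'))
  have hHo : ∀ h ∈ H, Odd (orderOf h) := fun h hh =>
    Odd.of_dvd_nat hHodd (Subgroup.orderOf_dvd_natCard H hh)
  obtain ⟨h0, hh0, hh01⟩ : ∃ h ∈ H, h ≠ 1 := by
    by_contra hcon
    push Not at hcon
    exact hH1 (eq_bot_iff.2 fun h hh => mem_bot.2 (hcon h hh))
  -- invariant subgroups of the section cover all squares
  have hcover : ∀ P : Subgroup M, P ≠ ⊥ → (∀ y ∈ N, ∀ m ∈ P, act y m ∈ P) →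
      ∀ v : V, v ≠ 1 → ∃ m ∈ P, q m = v := by
    intro P hP hPN v hv
    obtain ⟨m, hm, hm1⟩ : ∃ m ∈ P, m ≠ 1 := by
      by_contra hcon
      push Not at hcon
      exact hP (eq_bot_iff.2 fun m hm => mem_bot.2 (hcon m hm))
    obtain ⟨y, hy, hyv⟩ := htrans N hcovN _ (q m).2
      (fun h => hm1 (hq m (Subtype.ext h))) _ v.2
      (fun h => hv (Subtype.ext h))
    exact ⟨act y m, hPN y hy m hm, Subtype.ext (by rw [hq_act, hyv])⟩
  let Fm : Subgroup M :=
    { carrier := {m | ∀ h ∈ H, act h m = m}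
      one_mem' := fun h _ => map_one _
      mul_mem' := fun {a b} ha hb h hh => by rw [map_mul, ha h hh, hb h hh]
      inv_mem' := fun {a} ha h hh => by rw [map_inv, ha h hh] }
  have hβinv : ∀ f : M, ∀ g ∈ C, act g f = f → ∀ m, β f (act g m) = β f m := by
    intro f g hg hgf m
    show q (f * act g m) * (q f * q (act g m)) = q (f * m) * (q f * q m)
    rw [show f * act g m = act g (f * m) by rw [map_mul, hgf], hqC g hg, hqC g hg]
  have hFm : Fm = ⊥ := by
    by_contra hne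
    have hFN : ∀ y ∈ N, ∀ m ∈ Fm, act y m ∈ Fm := by
      intro y hy m hm h hh
      have h1 : y⁻¹ * h * y ∈ H := (Subgroup.mem_normalizer_iff''.1 hy h).1 hh
      rw [← MulAut.mul_apply, ← map_mul, show h * y = y * (y⁻¹ * h * y) by group, map_mul, MulAut.mul_apply,
        hm _ h1]
    refine hh01 (hfaith h0 (hHo h0 hh0) (hHC hh0) fun m => ?_)
    by_contra hne'
    set w := mov (act h0) m with hw
    have hw1 : w ≠ 1 := fun h => hne' (mem_ker_mov.1 h)
    obtain ⟨f, hf, hfw⟩ := hcover Fm hne hFN (q w) fun h => hw1 (hq w h)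
    have hβfw : β f w = 1 := by
      rw [hw, mov_apply, hβ, inv_eq hM2 m, hβinv f h0 (hHC hh0) (hf h0 hh0)]
      exact hV2 _
    have h1 : f * w = 1 := hq _ (by rw [hqm, hβfw, mul_one, hfw]; exact hV2 _)
    have hwf : act h0 w = w := by
      rw [show w = f⁻¹ from (mul_eq_one_iff_inv_eq.1 h1).symm, map_inv, hf h0 hh0]
    exact hw1 (eq_one_of_mov_fixed hM2 (Odd.of_dvd_nat (hHo h0 hh0) (orderOf_map_dvd act h0)) hwf)
  -- the centre of the critical subgroup
  have hcenn : ∀ (g a : G), a ∈ CfsgLib.CFun.cen A → g * a * g⁻¹ ∈ CfsgLib.CFun.cen A := by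
    intro g a ha
    refine Subgroup.mem_inf.2 ⟨hAn.conj_mem _ ha.1 g, mem_centralizer_iff.2 fun b hb => ?_⟩
    have h1 := mem_centralizer_iff.1 ha.2 _ (hAn.conj_mem' b hb g)
    calc b * (g * a * g⁻¹) = g * (g⁻¹ * b * g * a) * g⁻¹ := by group
      _ = g * (a * (g⁻¹ * b * g)) * g⁻¹ := by rw [h1]
      _ = g * a * g⁻¹ * b := by group
  have hcenD : ∀ d : D, (d : G) ∈ CfsgLib.CFun.cen A → (d : G) ∈ V := by
    intro d hd
    by_contra hdV
    let P : Subgroup M := ((CfsgLib.CFun.cen A).subgroupOf D).map mk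
    have hPN : ∀ y ∈ N, ∀ m ∈ P, act y m ∈ P := by
      rintro y - _ ⟨z, hz, rfl⟩
      refine ⟨MulAut.conjNormal y z, ?_, (hact y z).symm⟩
      show ((MulAut.conjNormal y z : D) : G) ∈ CfsgLib.CFun.cen A
      rw [MulAut.conjNormal_apply]
      exact hcenn y _ hz
    have hPadd : ∀ a ∈ P, ∀ b ∈ P, q (a * b) = q a * q b := by
      rintro _ ⟨a, ha, rfl⟩ _ ⟨b, hb, rfl⟩
      have h1 : β (mk a) (mk b) = 1 := Subtype.ext (by
        rw [hβval, OneMemClass.coe_one, commutatorElement_eq_one_iff_mul_comm]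
        exact mem_centralizer_iff.1 (Subgroup.mem_subgroupOf.1 ha).2 _ (hmemD.1 b.2).1)
      rw [hqm, h1, mul_one]
    have hPF : P ≤ Fm := fun m hm h hh => by
      have hhm : act h m ∈ P := hPN h (le_normalizer hh) m hm
      have h1 : act h m * m = 1 := hq _ (by rw [hPadd _ hhm _ hm, hqC h (hHC hh)]; exact hV2 _)
      rw [mul_eq_one_iff_eq_inv.1 h1, inv_eq hM2]
    have h1 : mk d ∈ (⊥ : Subgroup M) := hFm ▸ hPF (mem_map_of_mem mk hd)
    exact hdV ((mk_one d).1 (mem_bot.1 h1))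
  have hcenV : ∀ a ∈ CfsgLib.CFun.cen A, a ∈ V := by
    suffices key : ∀ (k : ℕ), ∀ a ∈ CfsgLib.CFun.cen A, a ^ 2 ^ k = 1 → a ∈ V by
      intro a ha
      obtain ⟨k, hk⟩ := hTp ⟨a, hAT ha.1⟩
      exact key k a ha (congrArg Subtype.val hk)
    intro k
    induction k with
    | zero => intro a _ hk; rw [pow_zero, pow_one] at hk; rw [hk]; exact one_mem V
    | succ k ih =>
      intro a ha hk
      have h1 := ih (a ^ 2) (pow_mem ha 2) (by rw [← pow_mul, ← pow_succ']; exact hk)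
      exact hcenD ⟨a, hmemD.2 ⟨ha.1, by
        rw [show (4 : ℕ) = 2 * 2 from rfl, pow_mul]; exact hmemV.1 h1⟩⟩ ha
  have hAD : A ≤ D := fun a ha => hmemD.2 ⟨ha, by
    rw [show (4 : ℕ) = 2 * 2 from rfl, pow_mul]; exact hmemV.1 (hcenV _ (hApow a ha))⟩
  have hTact : ∀ t ∈ T, act t = 1 := fun t ht => MulEquiv.ext fun m => by
    obtain ⟨d, rfl⟩ := hmk m
    rw [hact, MulAut.one_apply, ← mul_inv_eq_one, ← map_inv, ← map_mul, mk_one, Subgroup.coe_mul,
      MulAut.conjNormal_apply, Subgroup.coe_inv]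
    exact hcenV _ (hTA (commutator_mem_commutator ht (hmemD.1 d.2).1))
  have hTHV : ∀ t ∈ T, t ∈ centralizer (H : Set G) → t ∈ V := by
    intro t ht htH
    refine hcenV t ?_
    rw [← hTcen]
    refine Subgroup.mem_inf.2 ⟨ht, mem_centralizer_iff.2 fun a ha => ?_⟩
    have hcV : ∀ d : D, ⁅t, (d : G)⁆ ∈ V := fun d =>
      hcenV _ (hTA (commutator_mem_commutator ht (hmemD.1 d.2).1))
    have hcmul : ∀ d e : D, ⁅t, ((d * e : D) : G)⁆ = ⁅t, (d : G)⁆ * ⁅t, (e : G)⁆ := fun d e => by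
      rw [Subgroup.coe_mul]
      calc ⁅t, (d : G) * e⁆ = ⁅t, (d : G)⁆ * ((d : G) * ⁅t, (e : G)⁆ * (d : G)⁻¹) := by
            simp only [commutatorElement_def]; group
        _ = ⁅t, (d : G)⁆ * ⁅t, (e : G)⁆ := by rw [← (hVc _ (hcV e) d (hDT d.2)).eq, mul_inv_cancel_right]
    let φ : D →* V := MonoidHom.mk' (fun d => ⟨⁅t, (d : G)⁆, hcV d⟩) fun d e => Subtype.ext (hcmul d e)
    have hφV : V.subgroupOf D ≤ φ.ker := fun d hd => MonoidHom.mem_ker.2 (Subtype.ext
      (commutatorElement_eq_one_iff_mul_comm.2 (hVc _ (Subgroup.mem_subgroupOf.1 hd) t ht).symm.eq))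
    let φM : M →* V := QuotientGroup.lift _ φ hφV
    have hφinv : ∀ h ∈ H, ∀ m, φM (act h m) = φM m := by
      intro h hh m
      obtain ⟨d, rfl⟩ := hmk m
      rw [hact]
      show φ (MulAut.conjNormal h d) = φ d
      refine Subtype.ext ?_
      show ⁅t, ((MulAut.conjNormal h d : D) : G)⁆ = ⁅t, (d : G)⁆
      rw [MulAut.conjNormal_apply]
      have hth : h * t * h⁻¹ = t := mul_inv_eq_iff_eq_mul.2 (mem_centralizer_iff.1 htH h hh)
      conv_lhs => rw [← hth]
      rw [← conjugate_commutatorElement]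
      exact hCfix h (hHC hh) _ (hcV d)
    have hφ1 : ∀ m, φM m = 1 := by
      intro m
      haveI : Fintype H := Fintype.ofFinite H
      have hν : ∏ h : H, act (h : G) m ∈ Fm := fun h hh => by
        rw [map_prod]
        exact Fintype.prod_equiv (Equiv.mulLeft (⟨h, hh⟩ : H)) _ _ fun x => by
          rw [← MulAut.mul_apply, ← map_mul]; rfl
      rw [hFm, mem_bot] at hν
      have h1 := congrArg φM hν
      rw [map_prod, map_one, Finset.prod_congr rfl (fun (h : H) _ => hφinv h h.2 m), Finset.prod_const,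
        Finset.card_univ, ← Nat.card_eq_fintype_card] at h1
      obtain ⟨k, hk⟩ := hHodd
      rwa [hk, pow_succ, pow_mul, pow_two, hV2, one_pow, one_mul] at h1
    have h2 : ⁅t, a⁆ = 1 := congrArg Subtype.val (hφ1 (mk ⟨a, hAD ha⟩))
    exact (commutatorElement_eq_one_iff_mul_comm.1 h2).symm
  have hTN' : ∀ t ∈ T, t ∈ N → t ∈ V := fun t ht htN => hTHV t ht (hTN t ht htN)
  have hVN : V ≤ N := fun v hv => centralizer_le_normalizer _ (mem_centralizer_iff.2 fun h hh =>
    (mem_centralizer_iff.1 (hHC hh) v hv).symm)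
  -- the squaring map is onto
  have hMtop : (⊤ : Subgroup M) ≠ ⊥ := by
    intro htop
    refine hh01 (hfaith h0 (hHo h0 hh0) (hHC hh0) fun m => ?_)
    have h1 : ∀ x : M, x = 1 := fun x => mem_bot.1 (htop ▸ mem_top x)
    rw [h1 (act h0 m), h1 m]
  have hkerC : ∀ g, act g = 1 → g ∈ C := fun g hg => mem_centralizer_iff.2 fun v hv => by
    rcases eq_or_ne (⟨v, hv⟩ : V) 1 with h1 | h1
    · rw [show v = 1 from congrArg Subtype.val h1, one_mul, mul_one]
    obtain ⟨m, -, hm⟩ := hcover ⊤ hMtop (fun _ _ _ _ => mem_top _) ⟨v, hv⟩ h1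
    have h2 := hq_act g m
    rw [hg, MulAut.one_apply, hm] at h2
    exact eq_mul_inv_iff_mul_eq.1 h2
  have hkerT : act.ker ≤ T := by
    refine CfsgLib.Coprime.le_pCore fun g => ?_
    set o := orderOf (g : G)
    refine ⟨o.factorization 2, Subtype.ext ?_⟩
    rw [SubgroupClass.coe_pow, OneMemClass.coe_one]
    have hgk : (g : G) ^ 2 ^ o.factorization 2 ∈ act.ker := pow_mem g.2 _
    refine hfaith _ ?_ (hkerC _ (MonoidHom.mem_ker.1 hgk)) fun m => ?_
    · rw [orderOf_pow_of_dvd (pow_ne_zero _ two_ne_zero) (Nat.ordProj_dvd o 2)]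
      exact Nat.not_even_iff_odd.1 fun he =>
        Nat.not_dvd_ordCompl Nat.prime_two (orderOf_pos (g : G)).ne' he.two_dvd
    · rw [MonoidHom.mem_ker.1 hgk, MulAut.one_apply]
  -- `C / T` has even order
  let π := QuotientGroup.mk' T
  have hπ1 : ∀ {g : G}, π g = 1 ↔ g ∈ T := fun {g} => QuotientGroup.eq_one_iff g
  have hCeven : 2 ∣ Nat.card (C.map π) := by
    by_contra hCodd
    haveI : (C.map π).Normal := hCn.map π (QuotientGroup.mk'_surjective T)
    -- `O₂` and `O₂'` of `G / C` are trivial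
    have hp2 : Cfsg.pCore 2 (G ⧸ C) = ⊥ := by
      haveI : (Cfsg.pCore 2 (G ⧸ C)).Normal := CfsgLib.Coprime.pCore_normal' 2
      set W := (Cfsg.pCore 2 (G ⧸ C)).comap (QuotientGroup.mk' C) with hW
      haveI : W.Normal := inferInstance
      have hCW : C ≤ W := QuotientGroup.le_comap_mk' C _
      have hS := CfsgLib.Coprime.isSylowIn_map (default : Sylow 2 W)
      set S := ((default : Sylow 2 W) : Subgroup W).map W.subtype with hSdef
      have hVS : V ≤ S := by
        have hVW : V ≤ W := fun v hv => hCW (hTC (hVT hv))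
        have hVp : IsPGroup 2 (V.subgroupOf W) := (hTp.to_le hVT).of_equiv (subgroupOfEquivOfLe hVW).symm
        have h1 : V.subgroupOf W ≤ (default : Sylow 2 W) := sup_eq_left.1
          ((default : Sylow 2 W).3 ((default : Sylow 2 W).2.to_sup_of_normal_right hVp) le_sup_left)
        exact (map_subgroupOf_eq_of_le hVW).ge.trans (map_mono h1)
      have hSp : IsPGroup 2 S := hS.isPGroup
      haveI := hSp.isNilpotent
      haveI : (V.subgroupOf S).Normal := inferInstance
      have hVS1 : V.subgroupOf S ≠ ⊥ := by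
        intro h0
        rw [Subgroup.subgroupOf_eq_bot, disjoint_iff, inf_eq_left.2 hVS] at h0
        rw [h0, Subgroup.card_bot] at hn
        have : 2 ^ 1 ≤ 2 ^ n := Nat.pow_le_pow_right (by norm_num) (by omega)
        omega
      have hne := CfsgLib.Coprime.nilpotent_inf_center_ne_bot (G := S) (V.subgroupOf S) hVS1
      obtain ⟨z, hz, hz1⟩ : ∃ z ∈ V.subgroupOf S ⊓ center S, z ≠ 1 := by
        by_contra hcon
        push Not at hcon
        exact hne (eq_bot_iff.2 fun z hz => mem_bot.2 (hcon z hz))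
      have hWle : W ≤ C ⊔ S := by
        intro g hg
        have hCS : (2 : ℕ) ∣ 2 := dvd_rfl
        have hmap : W.map (QuotientGroup.mk' C) ≤ S.map (QuotientGroup.mk' C) := by
          have hWp : IsPGroup 2 (W.map (QuotientGroup.mk' C)) := by
            rw [hW, map_comap_eq_self_of_surjective (QuotientGroup.mk'_surjective C)]
            exact CfsgLib.Coprime.pCore_isPGroup 2
          have hle : S.map (QuotientGroup.mk' C) ≤ W.map (QuotientGroup.mk' C) := map_mono hS.1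
          refine (Subgroup.eq_of_le_of_card_ge hle ?_).ge
          obtain ⟨a, ha⟩ := IsPGroup.iff_card.1 hWp
          have h1 : Nat.card (W.map (QuotientGroup.mk' C)) * Nat.card C = Nat.card W := by
            rw [CfsgLib.Coprime.card_eq_card_mul_card_map_mk' C hCW, mul_comm]
          have h2 : Nat.card (S.map (QuotientGroup.mk' C)) * Nat.card ↥(S ⊓ C) = Nat.card S := by
            have h3 := ((QuotientGroup.mk' C).comp S.subtype).ker.card_mul_index
            rw [index_ker, MonoidHom.range_comp, range_subtype] at h3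
            rw [← h3, mul_comm]
            congr 1
            rw [← MonoidHom.comap_ker, QuotientGroup.ker_mk',
              ← Subgroup.card_map_of_injective S.subtype_injective, Subgroup.map_comap_eq, range_subtype]
          obtain ⟨b, hb⟩ := IsPGroup.iff_card.1 (hSp.map (QuotientGroup.mk' C))
          obtain ⟨c, hc⟩ := IsPGroup.iff_card.1 (hSp.to_le (inf_le_left : S ⊓ C ≤ S))
          rw [ha, hb]
          refine Nat.pow_le_pow_right (by norm_num) ?_
          have hcC : c ≤ (Nat.card C).factorization 2 :=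
            (Nat.prime_two.pow_dvd_iff_le_factorization Nat.card_pos.ne').1 (hc ▸ card_dvd_of_le inf_le_right)
          have hWf : (Nat.card W).factorization 2 = a + (Nat.card C).factorization 2 := by
            rw [← h1, ha, Nat.factorization_mul (pow_ne_zero _ two_ne_zero) Nat.card_pos.ne',
              Finsupp.add_apply, Nat.prime_two.factorization_pow, Finsupp.single_eq_same]
          have hSf : b + c = (Nat.card W).factorization 2 := by
            have h4 := h2
            rw [hb, hc, hS.2, ← pow_add] at h4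
            exact Nat.pow_right_injective le_rfl h4
          omega
        obtain ⟨s, hs, hse⟩ := hmap (mem_map_of_mem _ hg)
        have h1 : g * s⁻¹ ∈ C := by
          rw [← QuotientGroup.ker_mk' C, MonoidHom.mem_ker, map_mul, map_inv, hse, mul_inv_cancel]
        rw [show g = g * s⁻¹ * s by group]
        exact mul_mem_sup h1 hs
      have hzW : ((z : S) : G) ∈ V ⊓ centralizer (W : Set G) := by
        refine Subgroup.mem_inf.2 ⟨hz.1, ?_⟩
        have hle : C ⊔ S ≤ centralizer ({((z : S) : G)} : Set G) := by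
          refine sup_le (fun c hc => mem_centralizer_singleton_iff.2
            (mem_centralizer_iff.1 hc _ hz.1).symm) fun s hs => mem_centralizer_singleton_iff.2 ?_
          exact congrArg Subtype.val (Subgroup.mem_center_iff.1 hz.2 ⟨s, hs⟩)
        exact mem_centralizer_iff.2 fun w hw => mem_centralizer_singleton_iff.1 (hle (hWle hw))
      have hVW : V ≤ V ⊓ centralizer (W : Set G) := by
        refine hfull ⊤ (fun g => ⟨1, one_mem _, mem_top _⟩) _ inf_le_left ?_ ?_
        · intro h0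
          rw [h0, mem_bot] at hzW
          exact hz1 (Subtype.ext hzW)
        · intro y _ a ha
          refine Subgroup.mem_inf.2 ⟨hVn.conj_mem _ ha.1 y, mem_centralizer_iff.2 fun w hw => ?_⟩
          have h1 := mem_centralizer_iff.1 ha.2 _ ((inferInstance : W.Normal).conj_mem' w hw y)
          calc w * (y * a * y⁻¹) = y * (y⁻¹ * w * y * a) * y⁻¹ := by group
            _ = y * (a * (y⁻¹ * w * y)) * y⁻¹ := by rw [h1]
            _ = y * a * y⁻¹ * w := by group
      have hWC : W ≤ C := fun w hw => mem_centralizer_iff.2 fun v hv =>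
        (mem_centralizer_iff.1 (hVW hv).2 w hw).symm
      rw [← map_comap_eq_self_of_surjective (QuotientGroup.mk'_surjective C) (Cfsg.pCore 2 (G ⧸ C)),
        Subgroup.map_eq_bot_iff, QuotientGroup.ker_mk']
      exact hWC
    have hpp2 : Cfsg.pPrimeCore 2 (G ⧸ C) = ⊥ := by
      set W := (Cfsg.pPrimeCore 2 (G ⧸ C)).comap (QuotientGroup.mk' C) with hW
      haveI : W.Normal := inferInstance
      have hCW : C ≤ W := QuotientGroup.le_comap_mk' C _
      haveI : (W.map π).Normal := (inferInstance : W.Normal).map π (QuotientGroup.mk'_surjective T)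
      have hWC : W ≤ C := by
        have hodd : (Nat.card (W.map π)).Coprime 2 := by
          have h1 : Nat.card W = Nat.card T * Nat.card (W.map π) :=
            CfsgLib.Coprime.card_eq_card_mul_card_map_mk' T (hTC.trans hCW)
          have h2 : Nat.card C = Nat.card T * Nat.card (C.map π) :=
            CfsgLib.Coprime.card_eq_card_mul_card_map_mk' T hTC
          have h3 : Nat.card W = Nat.card C * Nat.card (W.map (QuotientGroup.mk' C)) :=
            CfsgLib.Coprime.card_eq_card_mul_card_map_mk' C hCW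
          have h4 : Nat.card (W.map π) = Nat.card (C.map π) * Nat.card (W.map (QuotientGroup.mk' C)) := by
            rw [h1, h2, mul_assoc] at h3
            exact Nat.eq_of_mul_eq_mul_left Nat.card_pos h3
          rw [h4, hW, map_comap_eq_self_of_surjective (QuotientGroup.mk'_surjective C)]
          exact (Nat.Coprime.symm (Nat.prime_two.coprime_iff_not_dvd.2 hCodd)).mul_left
            (CfsgLib.Coprime.pPrimeCore_coprime Nat.prime_two)
        intro g hg
        have h1 : π g ∈ H.map π := hHmap.ge (CfsgLib.Coprime.le_pPrimeCore hodd (mem_map_of_mem π hg))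
        obtain ⟨h, hh, he⟩ := h1
        have h2 : g * h⁻¹ ∈ T := hπ1.1 (by rw [map_mul, map_inv, he, mul_inv_cancel])
        rw [show g = g * h⁻¹ * h by group]
        exact mul_mem (hTC h2) (hHC hh)
      rw [← map_comap_eq_self_of_surjective (QuotientGroup.mk'_surjective C) (Cfsg.pPrimeCore 2 (G ⧸ C)),
        Subgroup.map_eq_bot_iff, QuotientGroup.ker_mk']
      exact hWC
    have h1 := CfsgLib.Coprime.centralizer_pCore_le (G := G ⧸ C) hpp2
    rw [hp2] at h1
    have hall : ∀ g : G, g ∈ C := fun g => by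
      rw [← QuotientGroup.ker_mk' C, MonoidHom.mem_ker]
      exact mem_bot.1 (h1 (mem_centralizer_iff.2 fun b hb => by rw [mem_bot.1 hb, one_mul, mul_one]))
    obtain ⟨g, hg⟩ := isConj_iff.1 (hconj x1 y1 hx1 hx2 hy1 hy2)
    exact hxy ((hCfix g (hall g) x1 hx2).symm.trans hg)
  -- a Sylow `2`-subgroup of `C ∩ N`
  obtain ⟨u0, hu0C, hu0N, hu0p, hu0T⟩ : ∃ u, u ∈ C ∧ u ∈ N ∧ (∃ k : ℕ, u ^ 2 ^ k = 1) ∧ u ∉ T := by
    obtain ⟨⟨b, hb⟩, hbo⟩ := exists_prime_orderOf_dvd_card' 2 hCeven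
    obtain ⟨c, hc, rfl⟩ := hb
    have hbo' : orderOf (π c) = 2 := by
      rw [← hbo, ← Subgroup.orderOf_coe]
    obtain ⟨v, hv, hvc⟩ := hHcov c
    set u := v * c with hu
    have hπu : π u = π c := by rw [hu, map_mul, hπ1.2 hv, one_mul]
    set o := orderOf u
    refine ⟨u ^ (o / 2 ^ o.factorization 2), pow_mem (mul_mem (hTC hv) hc) _, pow_mem hvc _,
      ⟨o.factorization 2, by
        rw [← pow_mul, mul_comm, Nat.mul_div_cancel' (Nat.ordProj_dvd o 2)]
        exact pow_orderOf_eq_one u⟩, fun hmem => ?_⟩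
    have h1 : π c ^ (o / 2 ^ o.factorization 2) = 1 := by rw [← hπu, ← map_pow]; exact hπ1.2 hmem
    have h2 := orderOf_dvd_of_pow_eq_one h1
    rw [hbo'] at h2
    exact Nat.not_dvd_ordCompl Nat.prime_two (orderOf_pos u).ne' h2
  set K := N ⊓ C with hK
  obtain ⟨S, hS, hu0S⟩ : ∃ S : Subgroup G, CfsgLib.Coprime.IsSylowIn 2 S K ∧ u0 ∈ S := by
    have hz : IsPGroup 2 (zpowers (⟨u0, Subgroup.mem_inf.2 ⟨hu0N, hu0C⟩⟩ : K)) := by
      obtain ⟨k, hk⟩ := hu0p
      obtain ⟨j, -, hj⟩ := (Nat.dvd_prime_pow Nat.prime_two).1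
        (orderOf_dvd_of_pow_eq_one (x := (⟨u0, Subgroup.mem_inf.2 ⟨hu0N, hu0C⟩⟩ : K)) (n := 2 ^ k)
          (Subtype.ext hk))
      exact IsPGroup.of_card (n := j) (by rw [Nat.card_zpowers, hj])
    obtain ⟨P, hP⟩ := hz.exists_le_sylow
    exact ⟨_, CfsgLib.Coprime.isSylowIn_map P, ⟨_, hP (mem_zpowers _), rfl⟩⟩
  have hSK : S ≤ K := hS.1
  have hVK : V ≤ K := le_inf hVN fun v hv => hTC (hVT hv)
  have hVS : V ≤ S := by
    haveI : (V.subgroupOf K).Normal := inferInstance
    have hVp : IsPGroup 2 (V.subgroupOf K) := (hTp.to_le hVT).of_equiv (subgroupOfEquivOfLe hVK).symm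
    have h1 : V.subgroupOf K ≤ hS.toSylow := sup_eq_left.1
      (hS.toSylow.3 (hS.toSylow.2.to_sup_of_normal_right hVp) le_sup_left)
    exact ((map_subgroupOf_eq_of_le hVK).ge.trans (map_mono h1)).trans hS.map_toSylow.le
  set Y := N ⊓ normalizer (S : Set G) with hY
  have hcovY : ∀ g : G, ∃ c ∈ C, c * g ∈ Y := by
    intro g
    obtain ⟨v, hv, hvg⟩ := hHcov g
    have hK' : v * g ∈ normalizer (K : Set G) := by
      refine Subgroup.mem_normalizer_iff.2 fun x => ?_
      simp only [hK, Subgroup.mem_inf]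
      refine and_congr (Subgroup.mem_normalizer_iff.1 (le_normalizer hvg) x)
        ⟨fun h => hCn.conj_mem x h _, fun h => ?_⟩
      have := hCn.conj_mem' _ h (v * g)
      simpa [mul_assoc] using this
    obtain ⟨k, hk, hkS⟩ := (hS.conjBy hK').exists_conj hS
    rw [CfsgLib.Coprime.conjBy_conjBy, CfsgLib.Coprime.conjBy_eq_self_iff] at hkS
    refine ⟨k * v, mul_mem hk.2 (hTC hv), ?_⟩
    rw [mul_assoc]
    exact Subgroup.mem_inf.2 ⟨mul_mem hk.1 hvg, hkS⟩
  let E0 : Subgroup G :=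
    { carrier := {u | u ∈ S ∧ u ^ 2 ∈ V ∧ ∀ s ∈ S, ⁅u, s⁆ ∈ V}
      one_mem' := ⟨one_mem S, by rw [one_pow]; exact one_mem V,
        fun s _ => by rw [commutatorElement_one_left]; exact one_mem V⟩
      mul_mem' := fun {a b} ha hb => ⟨mul_mem ha.1 hb.1, by
          rw [show (a * b) ^ 2 = a * ⁅b, a⁆ * a⁻¹ * a ^ 2 * b ^ 2 by
            simp only [pow_two, commutatorElement_def]; group]
          exact mul_mem (mul_mem (hVn.conj_mem _ (hb.2.2 a ha.1) a) ha.2.1) hb.2.1,
        fun s hs => by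
          rw [show ⁅a * b, s⁆ = a * ⁅b, s⁆ * a⁻¹ * ⁅a, s⁆ by simp only [commutatorElement_def]; group]
          exact mul_mem (hVn.conj_mem _ (hb.2.2 s hs) a) (ha.2.2 s hs)⟩
      inv_mem' := fun {a} ha => ⟨inv_mem ha.1, by rw [inv_pow]; exact inv_mem ha.2.1, fun s hs => by
          rw [show ⁅a⁻¹, s⁆ = a⁻¹ * ⁅a, s⁆⁻¹ * (a⁻¹)⁻¹ by simp only [commutatorElement_def]; group]
          exact hVn.conj_mem _ (inv_mem (ha.2.2 s hs)) _⟩ }
  have hE0T : ∀ u ∈ E0, u ∈ T → u ∈ V := fun u hu huT => hTN' u huT (hSK hu.1).1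
  have hE0ne : ∃ u ∈ E0, u ∉ T := by
    haveI hVSn : (V.subgroupOf S).Normal := inferInstance
    have hQp : IsPGroup 2 (↥S ⧸ V.subgroupOf S) := hS.isPGroup.to_quotient _
    haveI : Nontrivial (↥S ⧸ V.subgroupOf S) := by
      refine ⟨⟨QuotientGroup.mk' _ ⟨u0, hu0S⟩, 1, fun h => hu0T ?_⟩⟩
      exact hVT (Subgroup.mem_subgroupOf.1 ((QuotientGroup.eq_one_iff _).1 h))
    haveI := hQp.center_nontrivial
    obtain ⟨k, hk⟩ := IsPGroup.iff_card.1 (hQp.to_subgroup (center _))
    have h2 : 2 ∣ Nat.card (center (↥S ⧸ V.subgroupOf S)) := by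
      rcases k with _ | k
      · rw [pow_zero] at hk
        have := Finite.one_lt_card (α := center (↥S ⧸ V.subgroupOf S))
        omega
      · rw [hk]; exact dvd_pow_self 2 (by omega)
    obtain ⟨z, hz⟩ := exists_prime_orderOf_dvd_card' 2 h2
    obtain ⟨u, hu⟩ := QuotientGroup.mk'_surjective (V.subgroupOf S) (z : ↥S ⧸ V.subgroupOf S)
    refine ⟨u, ⟨u.2, ?_, fun s hs => ?_⟩, fun huT => ?_⟩
    · have h1 : QuotientGroup.mk' (V.subgroupOf S) (u ^ 2) = 1 := by
        rw [map_pow, hu, ← SubgroupClass.coe_pow, ← hz, pow_orderOf_eq_one, OneMemClass.coe_one]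
      exact Subgroup.mem_subgroupOf.1 ((QuotientGroup.eq_one_iff _).1 h1)
    · have h1 : QuotientGroup.mk' (V.subgroupOf S) ⁅u, ⟨s, hs⟩⁆ = 1 := by
        rw [map_commutatorElement, hu, commutatorElement_eq_one_iff_mul_comm]
        exact (Subgroup.mem_center_iff.1 z.2 _).symm
      exact Subgroup.mem_subgroupOf.1 ((QuotientGroup.eq_one_iff _).1 h1)
    · have h1 : (z : ↥S ⧸ V.subgroupOf S) = 1 :=
        hu ▸ (QuotientGroup.eq_one_iff _).2 (Subgroup.mem_subgroupOf.2 (hTN' _ huT (hSK u.2).1))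
      rw [show z = 1 from Subtype.ext h1, orderOf_one] at hz
      omega
  set Eb := E0.map π with hEb
  let f : Eb → G := fun b => (Subgroup.mem_map.1 b.2).choose ^ 2
  have hfspec : ∀ b : Eb, ∀ u ∈ E0, π u = b → f b = u ^ 2 := by
    intro b u hu hub
    obtain ⟨hu', hπu'⟩ := (Subgroup.mem_map.1 b.2).choose_spec
    set u' := (Subgroup.mem_map.1 b.2).choose
    have hv : u⁻¹ * u' ∈ V := hE0T _ (mul_mem (inv_mem hu) hu') (hπ1.1 (by
      rw [map_mul, map_inv, hub, hπu', inv_mul_cancel]))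
    show u' ^ 2 = u ^ 2
    conv_lhs => rw [show u' = u * (u⁻¹ * u') by group]
    rw [(show Commute u (u⁻¹ * u') from (mem_centralizer_iff.1 (hSK hu.1).2 _ hv).symm).mul_pow,
      hmemV.1 hv, mul_one]
  set Tset : Set G := {v | v ∈ V ∧ v ≠ 1} with hTset
  have hTfin : Tset.Finite := Set.toFinite _
  have hTcard : Tset.ncard = 2 ^ n - 1 := by
    have : Tset = (V : Set G) \ {1} := by ext x; simp [hTset]
    rw [this, Set.ncard_sdiff_singleton_of_mem (one_mem V), ← Nat.card_coe_set_eq]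
    exact congrArg (· - 1) hn
  have hv1T : x1 ∈ Tset := ⟨hx2, hx1⟩
  have hEcard : 2 ^ n ≤ Nat.card Eb := by
    have hf1 : f 1 ∉ Tset := by
      rw [hfspec 1 1 (one_mem _) (map_one π), one_pow]
      exact fun h => h.2 rfl
    have hfall : ∀ b : Eb, b ≠ 1 → f b ∈ Tset := by
      intro b hb
      obtain ⟨u, hu, hub⟩ := Subgroup.mem_map.1 b.2
      rw [hfspec b u hu hub]
      refine ⟨hu.2.1, fun h => hb (Subtype.ext ?_)⟩
      rw [← hub, OneMemClass.coe_one]
      exact hπ1.2 (hVT (hmemV.2 h))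
    have hσ : ∀ v ∈ Tset, ∀ w ∈ Tset, ∃ σ : Eb → Eb, Function.Injective σ ∧ ∀ b, f b = v → f (σ b) = w := by
      rintro v ⟨hv, hv1⟩ w ⟨hw, hw1⟩
      obtain ⟨y, hy, hyw⟩ := htrans Y hcovY v hv hv1 w hw hw1
      have hyE : ∀ u ∈ E0, y * u * y⁻¹ ∈ E0 := by
        intro u hu
        refine ⟨(Subgroup.mem_normalizer_iff.1 hy.2 u).1 hu.1, by rw [conj_pow]; exact hVn.conj_mem _ hu.2.1 y,
          fun s hs => ?_⟩
        have hs' := (Subgroup.mem_normalizer_iff''.1 hy.2 s).1 hs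
        rw [show ⁅y * u * y⁻¹, s⁆ = y * ⁅u, y⁻¹ * s * y⁆ * y⁻¹ by simp only [commutatorElement_def]; group]
        exact hVn.conj_mem _ (hu.2.2 _ hs') y
      have hmemEb : ∀ b : Eb, π y * (b : G ⧸ T) * (π y)⁻¹ ∈ Eb := fun b => by
        obtain ⟨u, hu, hub⟩ := Subgroup.mem_map.1 b.2
        exact ⟨y * u * y⁻¹, hyE u hu, by rw [map_mul, map_mul, map_inv, hub]⟩
      refine ⟨fun b => ⟨_, hmemEb b⟩, fun a b hab => Subtype.ext
        (mul_left_cancel (mul_right_cancel (congrArg Subtype.val hab))), fun b hb => ?_⟩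
      obtain ⟨u, hu, hub⟩ := Subgroup.mem_map.1 b.2
      rw [hfspec b u hu hub] at hb
      rw [hfspec _ _ (hyE u hu) (by rw [map_mul, map_mul, map_inv, hub]), conj_pow, hb, hyw]
    have hcount := card_fibre f 1 Tset hTfin hf1 hfall hσ x1 hv1T
    rw [hTcard] at hcount
    have hE1 : 1 < Nat.card Eb := by
      obtain ⟨u, hu, huT⟩ := hE0ne
      haveI : Nontrivial Eb := ⟨⟨⟨π u, mem_map_of_mem π hu⟩, 1, fun h => huT (hπ1.1 (congrArg Subtype.val h))⟩⟩
      exact Finite.one_lt_card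
    have h2n : 1 ≤ 2 ^ n := Nat.one_le_two_pow
    rcases Nat.eq_zero_or_pos (Nat.card {b : Eb // f b = x1}) with h0 | h0
    · rw [h0, mul_zero] at hcount; omega
    · have := Nat.le_mul_of_pos_right (2 ^ n - 1) h0
      omega
  -- the dihedral configuration
  set F := Cfsg.fittingSubgroup (G ⧸ T) with hF
  haveI hFn : F.Normal := CfsgLib.Coprime.fitting_normal
  have hFodd : Odd (Nat.card F) := by
    refine Odd.of_dvd_nat (Nat.coprime_two_right.1 (CfsgLib.Coprime.pPrimeCore_coprime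
      (G := G ⧸ T) Nat.prime_two)) (card_dvd_of_le ?_)
    rw [hF, CfsgLib.Coprime.fitting_eq_iSup_pCore]
    refine iSup_le fun r => ?_
    by_cases hr : (r : ℕ) = 2
    · rw [hr, hcore]; exact bot_le
    · haveI := Fact.mk r.2
      exact CfsgLib.Coprime.pCore_le_pPrimeCore_of_ne hr
  have hE2 : ∀ b ∈ Eb, b * b = 1 := by
    rintro _ ⟨u, hu, rfl⟩
    rw [← map_mul, ← pow_two]
    exact hπ1.2 (hVT hu.2.1)
  have hEc : ∀ a ∈ Eb, ∀ b ∈ Eb, a * b = b * a := by
    rintro _ ⟨u, hu, rfl⟩ _ ⟨w, hw, rfl⟩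
    rw [← commutatorElement_eq_one_iff_mul_comm, ← map_commutatorElement]
    exact hπ1.2 (hVT (hu.2.2 w hw.1))
  have hEfaith : ∀ b ∈ Eb, b ∈ centralizer (F : Set (G ⧸ T)) → b = 1 := by
    intro b hb hbF
    have h1 : orderOf b ∣ Nat.card F :=
      Subgroup.orderOf_dvd_natCard F (CfsgLib.Coprime.centralizer_fitting_le hbF)
    have h2 : orderOf b ∣ 2 := orderOf_dvd_of_pow_eq_one (by rw [pow_two]; exact hE2 b hb)
    exact orderOf_eq_one_iff.1 (Nat.eq_one_of_dvd_coprimes (Nat.coprime_two_left.2 hFodd) h2 h1)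
  obtain ⟨e, x, hex, hxc, -, hinv', hfix'⟩ := exists_pairs Eb hEc hE2 n Eb F le_rfl
    (by rw [normalizer_eq_top_iff.2 hFn]; exact le_top) hFodd CfsgLib.Coprime.fitting_isNilpotent hEfaith hEcard
  haveI hCbn : (C.map π).Normal := hCn.map π (QuotientGroup.mk'_surjective T)
  have hEC : Eb ≤ C.map π := map_mono fun u hu => (hSK hu.1).2
  have hxC : ∀ i, x i ∈ C.map π := by
    intro i
    have h1 : x i * x i ∈ C.map π := by
      have h2 := mul_mem (hCbn.conj_mem _ (hEC (hex i).1) (x i)) (inv_mem (hEC (hex i).1))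
      rwa [show x i * e i * (x i)⁻¹ * (e i)⁻¹ = x i * x i by
        have h3 := congrArg (·⁻¹) (hinv' i)
        simp only [mul_inv_rev, inv_inv] at h3
        rw [show x i * e i * (x i)⁻¹ * (e i)⁻¹ = x i * (e i * ((x i)⁻¹ * (e i)⁻¹)) by group, h3]] at h2
    obtain ⟨k, hk⟩ := Odd.of_dvd_nat hFodd (Subgroup.orderOf_dvd_natCard F (hex i).2.1)
    have h2 : x i = ((x i * x i) ^ k)⁻¹ := by
      rw [eq_inv_iff_mul_eq_one, ← pow_two, ← pow_mul, ← pow_succ', ← hk, pow_orderOf_eq_one]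
    rw [h2]
    exact inv_mem (pow_mem h1 k)
  let actX : G ⧸ T →* MulAut M := QuotientGroup.lift T act fun t ht => MonoidHom.mem_ker.2 (hTact t ht)
  have hinjX : Function.Injective actX := by
    rw [← MonoidHom.ker_eq_bot_iff, eq_bot_iff]
    intro b hb
    obtain ⟨g, rfl⟩ := QuotientGroup.mk'_surjective T b
    exact mem_bot.2 ((QuotientGroup.eq_one_iff g).2 (hkerT hb))
  have hconfig : Config (Finset.univ : Finset (Fin n)) (fun i => actX (e i)) (fun i => actX (x i)) := by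
    refine ⟨fun i _ => ?_, fun i _ j _ => ?_, fun i _ j _ => ?_, fun i _ => ?_, fun i _ => ?_,
      fun i _ j _ hij => ?_⟩
    · show actX (e i) * actX (e i) = 1
      rw [← map_mul, hE2 _ (hex i).1, map_one]
    · show actX (e i) * actX (e j) = actX (e j) * actX (e i)
      rw [← map_mul, ← map_mul, hEc _ (hex i).1 _ (hex j).1]
    · show actX (x i) * actX (x j) = actX (x j) * actX (x i)
      rw [← map_mul, ← map_mul, hxc i j]
    · exact Odd.of_dvd_nat (Odd.of_dvd_nat hFodd (Subgroup.orderOf_dvd_natCard F (hex i).2.1))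
        (orderOf_map_dvd actX (x i))
    · show actX (e i) * actX (x i) = (actX (x i))⁻¹ * actX (e i)
      rw [← map_inv, ← map_mul, ← map_mul, mul_inv_eq_iff_eq_mul.1 (hinv' i)]
    · show actX (e i) * actX (x j) = actX (x j) * actX (e i)
      rw [← map_mul, ← map_mul, mul_inv_eq_iff_eq_mul.1 (hfix' i j hij)]
  have hne' : ∀ i ∈ (Finset.univ : Finset (Fin n)), ∃ m, actX (x i) m ≠ m := by
    intro i _
    by_contra hcon
    push Not at hcon
    exact (hex i).2.2 (hinjX ((MulEquiv.ext hcon : actX (x i) = 1).trans (map_one actX).symm))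
  have hlow : 4 ^ n ≤ Nat.card M := by
    have h1 := Config.four_pow_le hM2 _ hconfig ⊤ (fun i _ m _ => mem_top _) (fun i _ m _ => mem_top _)
      fun i hi => by obtain ⟨m, hm⟩ := hne' i hi; exact ⟨m, mem_top m, hm⟩
    rwa [Finset.card_univ, Fintype.card_fin, Subgroup.card_top] at h1
  have hup : Nat.card M ≤ 4 ^ n := by
    open CfsgLib.QuadraticSquares in
    have hW : V.subgroupOf D ≤ center D := fun v hv => Subgroup.mem_center_iff.2 fun d =>
      Subtype.ext (hVc _ (Subgroup.mem_subgroupOf.1 hv) d (hDT d.2)).symm.eq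
    have hsqW : ∀ d : D, d ^ 2 ∈ V.subgroupOf D := fun d => hDsq d d.2
    have hcW : ∀ a b : D, ⁅a, b⁆ ∈ V.subgroupOf D := fun a b => hDcomm a a.2 b b.2
    have hexp : ∀ w ∈ V.subgroupOf D, w ^ 2 = 1 := fun w hw => Subtype.ext (by
      rw [SubgroupClass.coe_pow]; exact hmemV.1 hw)
    have hcardW : Nat.card (V.subgroupOf D) = 2 ^ n := by
      rw [Nat.card_congr (subgroupOfEquivOfLe hVD).toEquiv, hn]
    have h := CfsgLib.QuadraticSquares.card_le_of_deg (N := V.subgroupOf D) hsqW hcW le_top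
      (CfsgLib.QuadraticSquares.deg_ind hW hsqW hcW hexp n ⊥ bot_le
        (by rw [hcardW, Subgroup.card_bot, one_mul]))
      (by simp [CfsgLib.QuadraticSquares.ind])
      (fun v _ hv => if_neg fun h => hv (Subgroup.mem_subgroupOf.2 (hmemV.2 (by
        rw [← SubgroupClass.coe_pow, Subgroup.mem_bot.1 h, OneMemClass.coe_one]))))
    rw [Subgroup.card_top, card_eq_card_quotient_mul_card_subgroup (V.subgroupOf D)] at h
    have h' := Nat.le_of_mul_le_mul_right h Nat.card_pos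
    rwa [show 2 ^ (2 * n) = 4 ^ n by rw [pow_mul]; norm_num] at h'
  obtain ⟨y, hy, hyodd, hy4⟩ := hconfig.exists_small hM2 hne'
    ⟨⟨0, by omega⟩, Finset.mem_univ _⟩ (by rw [Finset.card_univ, Fintype.card_fin]; exact hup)
  have hyC : y ∈ (C.map π).map actX := by
    refine (closure_le _).2 ?_ hy
    rintro _ ⟨i, -, rfl⟩
    exact mem_map_of_mem actX (hxC i)
  obtain ⟨_, ⟨c, hc, rfl⟩, hcy⟩ := hyC
  obtain ⟨v, hv1, hv3⟩ := fibre_le_three hM2 q hq hq1 (fun m => hV2 _) β hqm hβ hyodd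
    (fun m => by rw [← hcy]; exact hqC c hc m) hy4
  -- count the fibres of `q`
  have hcount := card_fibre q 1 {w : V | w ≠ 1} (Set.toFinite _) (by simp [hq1])
    (fun m hm h => hm (hq m h)) (fun v hv w hw => by
      obtain ⟨g, hg, hgw⟩ := htrans N hcovN _ v.2 (fun h => hv (Subtype.ext h))
        _ w.2 (fun h => hw (Subtype.ext h))
      exact ⟨act g, (act g).injective, fun m hm => Subtype.ext (by rw [hq_act, hm, hgw])⟩) v hv1
  have hVset : {w : V | w ≠ 1}.ncard = 2 ^ n - 1 := by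
    rw [show {w : V | w ≠ 1} = (Set.univ : Set V) \ {1} by ext; simp,
      Set.ncard_sdiff_singleton_of_mem (Set.mem_univ _), Set.ncard_univ, hn]
  rw [hVset, le_antisymm hup hlow, show 4 ^ n = 2 ^ n * 2 ^ n by rw [← mul_pow]; norm_num] at hcount
  have h4 : 4 ≤ 2 ^ n := le_trans (by norm_num) (Nat.pow_le_pow_right (n := 2) two_pos hn2)
  have h5 : 2 ^ n * 2 ^ n ≤ 1 + (2 ^ n - 1) * 3 := hcount ▸ Nat.add_le_add_left (Nat.mul_le_mul_left _ hv3) 1
  have h6 : 4 * 2 ^ n ≤ 2 ^ n * 2 ^ n := Nat.mul_le_mul_right _ h4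
  omega

end CfsgLib.PGroup.ConjInvol
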