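import Cfsg.Agent.Lib.PGroup.ConjInvol.Config
import Mathlib.Data.Set.Card
import Mathlib.Tactic.Positivity
import Mathlib.Tactic.Linarith
import Mathlib.Tactic.NormNum
import Mathlib.GroupTheory.SpecificGroups.Cyclic.Basic

/-!
# The extremal dihedral configuration

In the case of equality some element of odd order moves only a four group; such an element cannot preserve
an anisotropic quadratic map with fibres of more than three elements.
-/

set_option autoImplicit false

open Subgroup

namespace CfsgLib.PGroup.ConjInvol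

universe u

variable {M : Type u} [CommGroup M]

theorem fixed_of_sq {f : MulAut M} (hf : Odd (orderOf f)) {c : M} (h : f (f c) = c) : f c = c := by
  have h3 : ∀ k : ℕ, (f ^ (2 * k)) c = c := by
    intro k
    induction k with
    | zero => simp
    | succ k ih => rw [Nat.mul_succ, pow_add, MulAut.mul_apply, pow_two, MulAut.mul_apply, h, ih]
  obtain ⟨k, hk⟩ := hf
  have h4 : (f ^ (2 * k + 1)) c = f c := by rw [pow_succ', MulAut.mul_apply, h3]
  rw [← hk, pow_orderOf_eq_one, MulAut.one_apply] at h4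
  exact h4.symm

theorem inv_eq (hM : ∀ m : M, m ^ 2 = 1) (y : M) : y⁻¹ = y := by
  rw [inv_eq_iff_mul_eq_one, ← pow_two, hM]

variable [Finite M]

omit [Finite M] in
/-- In an invariant subgroup of order two everything is fixed. -/
theorem fixed_of_card_two {N : Subgroup M} {f : MulAut M} (hi : Inv N f) (hN : Nat.card N = 2) {m : M}
    (hm : m ∈ N) : f m = m := by
  haveI : Finite N := Nat.finite_of_card_ne_zero (by omega)
  obtain ⟨a, b, hab, hset⟩ := Nat.card_eq_two_iff.1 hN
  have hall : ∀ z : N, z ≠ 1 → ∀ z' : N, z' ≠ 1 → z = z' := by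
    intro z hz z' hz'
    have h1 : z ∈ ({a, b} : Set N) := hset ▸ Set.mem_univ z
    have h2 : z' ∈ ({a, b} : Set N) := hset ▸ Set.mem_univ z'
    have h3 : (1 : N) ∈ ({a, b} : Set N) := hset ▸ Set.mem_univ 1
    simp only [Set.mem_insert_iff, Set.mem_singleton_iff] at h1 h2 h3
    rcases h3 with h3 | h3 <;> rcases h1 with h1 | h1 <;> rcases h2 with h2 | h2 <;>
      first | (exact h1.trans h2.symm) | (exact absurd (h1.trans h3.symm) hz) | (exact absurd (h2.trans h3.symm) hz')
  rcases eq_or_ne m 1 with rfl | hm1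
  · exact map_one f
  · exact congrArg Subtype.val (hall ⟨f m, hi m hm⟩
      (fun h => hm1 (f.injective (by rw [map_one]; exact congrArg Subtype.val h))) ⟨m, hm⟩
      fun h => hm1 (congrArg Subtype.val h))

/-- On an invariant four group an element of odd order that moves something fixes nothing. -/
theorem fpf_of_card_four (hM : ∀ m : M, m ^ 2 = 1) {N : Subgroup M} {f : MulAut M} (hi : Inv N f)
    (hf : Odd (orderOf f)) (hN : Nat.card N = 4) (hmove : ∃ m ∈ N, f m ≠ m) {c : M} (hc : c ∈ N)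
    (hfc : f c = c) : c = 1 := by
  by_contra hc1
  obtain ⟨m, hm, hne⟩ := hmove
  have hcard := card_mov N f
  rw [hN] at hcard
  have hk : 2 ≤ Nat.card ↥(N ⊓ (mov f).ker) := by
    by_contra hlt
    have h1 : Nat.card ↥(N ⊓ (mov f).ker) = 1 := by have := Nat.card_pos (α := ↥(N ⊓ (mov f).ker)); omega
    have h2 : c ∈ N ⊓ (mov f).ker := mem_inf.2 ⟨hc, mem_ker_mov.2 hfc⟩
    rw [eq_bot_of_card_eq _ h1, mem_bot] at h2
    exact hc1 h2
  have hr : 2 ≤ Nat.card (N.map (mov f)) := by
    by_contra hlt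
    have h1 : Nat.card (N.map (mov f)) = 1 := by have := Nat.card_pos (α := N.map (mov f)); omega
    have h2 : mov f m ∈ N.map (mov f) := mem_map_of_mem _ hm
    rw [eq_bot_of_card_eq _ h1, mem_bot] at h2
    exact hne (mem_ker_mov.1 h2)
  have hr2 : Nat.card (N.map (mov f)) = 2 := by
    have h1 : 2 * Nat.card (N.map (mov f)) ≤ 4 := hcard ▸ Nat.mul_le_mul_right _ hk
    omega
  have hmem : mov f m ∈ N.map (mov f) := mem_map_of_mem _ hm
  have h3 := fixed_of_card_two (inv_parts (f := f) (g := f) rfl hi).2 hr2 hmem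
  exact hne (mem_ker_mov.1 (eq_one_of_mov_fixed hM hf h3))

/-- In a four group a fixed point free element of odd order satisfies `f² c = c * f c`. -/
theorem sq_apply_of_card_four (hM : ∀ m : M, m ^ 2 = 1) {N : Subgroup M} {f : MulAut M} (hi : Inv N f)
    (hf : Odd (orderOf f)) (hN : Nat.card N = 4) (hfix : ∀ c ∈ N, f c = c → c = 1) {c : M} (hc : c ∈ N)
    (hc1 : c ≠ 1) : f (f c) = c * f c := by
  classical
  have hfc : f c ≠ c := fun h => hc1 (hfix c hc h)
  have hf1 : f c ≠ 1 := fun h => hc1 (f.injective (h.trans (map_one f).symm))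
  have hcf : c * f c ≠ 1 := fun h => hfc ((mul_eq_one_iff_inv_eq.1 h).symm.trans (inv_eq hM c))
  haveI : Fintype N := Fintype.ofFinite N
  let S : Finset N := {1, ⟨c, hc⟩, ⟨f c, hi c hc⟩, ⟨c * f c, mul_mem hc (hi c hc)⟩}
  have hS : S.card = 4 := by
    rw [Finset.card_eq_four]
    refine ⟨1, ⟨c, hc⟩, ⟨f c, hi c hc⟩, ⟨c * f c, mul_mem hc (hi c hc)⟩, ?_, ?_, ?_, ?_, ?_, ?_, rfl⟩ <;>
      intro h <;> have h' := congrArg Subtype.val h
    · exact hc1 h'.symm
    · exact hf1 h'.symm
    · exact hcf h'.symm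
    · exact hfc h'.symm
    · exact hf1 (left_eq_mul.1 h')
    · exact hc1 (right_eq_mul.1 h')
  have huniv : S = Finset.univ := Finset.eq_univ_of_card S (by rw [hS, ← hN, Nat.card_eq_fintype_card])
  have hmem : (⟨f (f c), hi _ (hi c hc)⟩ : N) ∈ S := huniv ▸ Finset.mem_univ _
  simp only [S, Finset.mem_insert, Finset.mem_singleton] at hmem
  rcases hmem with h | h | h | h <;> have h' : f (f c) = _ := congrArg Subtype.val h
  · exact absurd (f.injective (h'.trans (map_one f).symm)) hf1
  · exact absurd (fixed_of_sq hf h') hfc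
  · exact absurd (f.injective h') hfc
  · exact h'

variable {ι : Type*}

/-- In the case of equality some element of odd order in the configuration moves exactly a four group. -/
theorem Config.exists_small (hM : ∀ m : M, m ^ 2 = 1) {s : Finset ι} {e x : ι → MulAut M}
    (h : Config s e x) (hne : ∀ i ∈ s, ∃ m, x i m ≠ m) (hs : s.Nonempty) (hcard : Nat.card M ≤ 4 ^ s.card) :
    ∃ y ∈ closure (x '' (s : Set ι)), Odd (orderOf y) ∧ Nat.card (mov y).range = 4 := by
  classical
  obtain ⟨i, hi⟩ := hs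
  have hN : ∀ f : MulAut M, Inv (⊤ : Subgroup M) f := fun f m _ => mem_top _
  have hcl : ∀ k ∈ s, x k ∈ closure (x '' (s : Set ι)) := fun k hk => subset_closure ⟨k, hk, rfl⟩
  set N1 := (⊤ : Subgroup M).map (mov (x i)) with hN1
  set C := N1 ⊓ (mov (e i)).ker with hC
  set F := (⊤ : Subgroup M) ⊓ (mov (x i)).ker with hF
  obtain ⟨hcardC, hdis, hrest⟩ := h.moved hM (fun k _ => hN _) (fun k _ => hN _) hi hC
  set A := (s.erase i).filter fun j => ∃ m ∈ N1, x j m ≠ m with hA
  set B := (s.erase i).filter fun j => ¬ ∃ m ∈ N1, x j m ≠ m with hB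
  have hAB : A.card + B.card = (s.erase i).card := Finset.card_filter_add_card_filter_not _
  have hmem : ∀ {t : Finset ι}, t ⊆ s.erase i → ∀ j ∈ t, j ∈ s ∧ j ≠ i := fun ht j hj =>
    ⟨Finset.mem_of_mem_erase (ht hj), Finset.ne_of_mem_erase (ht hj)⟩
  have hAs : A ⊆ s.erase i := Finset.filter_subset _ _
  have hBs : B ⊆ s.erase i := Finset.filter_subset _ _
  have hCle : 4 ^ A.card ≤ Nat.card C := by
    refine Config.four_pow_le hM A (h.subset fun j hj => (hmem hAs j hj).1) C (fun j hj => ?_)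
      (fun j hj => ?_) fun j hj => ?_
    · exact (hrest j (hmem hAs j hj).1 (hmem hAs j hj).2).1
    · exact (hrest j (hmem hAs j hj).1 (hmem hAs j hj).2).2.1
    · obtain ⟨m, hm, hne'⟩ := (Finset.mem_filter.1 hj).2
      by_contra hcon
      push Not at hcon
      exact hne' ((hrest j (hmem hAs j hj).1 (hmem hAs j hj).2).2.2 hcon m hm)
  -- the bound on the fixed part, for any set of indices moving it
  have hFle : ∀ t ⊆ s.erase i, (∀ j ∈ t, ∃ m ∈ F, x j m ≠ m) → 4 ^ t.card ≤ Nat.card F := by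
    intro t ht hmove
    refine Config.four_pow_le hM t (h.subset fun j hj => (hmem ht j hj).1) F (fun j hj => ?_)
      (fun j hj => ?_) hmove
    · exact (inv_parts (h.fix j (hmem ht j hj).1 i hi (hmem ht j hj).2) (hN _)).1
    · exact (inv_parts (h.xcomm j (hmem ht j hj).1 i hi) (hN _)).1
  have hBmove : ∀ j ∈ B, ∃ m ∈ F, x j m ≠ m := by
    intro j hj
    obtain ⟨m, hne'⟩ := hne j (hmem hBs j hj).1
    obtain ⟨w, hw, hmw⟩ := exists_decomp hM (hN (x i)) (h.xodd i hi) (mem_top m)
    refine ⟨_, hmw, fun heq => hne' ?_⟩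
    have hxw : x j w = w := by
      have h' := (Finset.mem_filter.1 hj).2
      push Not at h'
      exact h' w hw
    rw [map_mul, map_inv, hxw, mul_left_inj] at heq
    exact heq
  have hFB := hFle B hBs hBmove
  have hC2 : 2 ≤ Nat.card C := by
    by_contra hlt2
    have h1 : Nat.card C = 1 := by have := Nat.card_pos (α := C); omega
    rw [h1, one_mul] at hcardC
    obtain ⟨m, hne'⟩ := hne i hi
    have h2 : mov (x i) m ∈ N1 := mem_map_of_mem _ (mem_top m)
    rw [show N1 = ⊥ from eq_bot_of_card_eq _ hcardC, mem_bot] at h2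
    exact hne' (mem_ker_mov.1 h2)
  have hMF : Nat.card M = Nat.card F * Nat.card N1 := by
    rw [← card_mov, Nat.card_congr Subgroup.topEquiv.toEquiv]
  have hsc : s.card = A.card + B.card + 1 := by rw [hAB, Finset.card_erase_add_one hi]
  rw [hMF, hcardC, hsc, pow_succ, pow_add] at hcard
  -- so at most one further element acts on the moved part
  have hA1 : A.card ≤ 1 := by
    by_contra hgt
    have h1 : 4 ^ B.card * (4 ^ A.card * 4 ^ A.card) ≤ 4 ^ B.card * (4 ^ A.card * 4) := by
      refine le_trans (Nat.mul_le_mul hFB (Nat.mul_le_mul hCle hCle)) (hcard.trans (le_of_eq ?_))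
      ring
    have h2 := Nat.le_of_mul_le_mul_left (Nat.le_of_mul_le_mul_left h1 (by positivity)) (by positivity)
    have h3 : 4 ^ 2 ≤ 4 ^ A.card := Nat.pow_le_pow_right (by norm_num) (by omega)
    omega
  rcases Nat.lt_or_ge A.card 1 with hA0 | hA1'
  · -- `x i` itself
    refine ⟨x i, hcl i hi, h.xodd i hi, ?_⟩
    rw [MonoidHom.range_eq_map]
    show Nat.card N1 = 4
    rw [show A.card = 0 by omega, pow_zero, one_mul] at hcard
    have h1 := Nat.mul_le_mul_right (Nat.card C * Nat.card C) hFB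
    have h2 : Nat.card C * Nat.card C ≤ 4 :=
      Nat.le_of_mul_le_mul_left (h1.trans hcard) (by positivity)
    have h3 : Nat.card C = 2 := by nlinarith
    rw [hcardC, h3]
  obtain ⟨j, hAj⟩ := Finset.card_eq_one.1 (le_antisymm hA1 hA1')
  have hjA : j ∈ A := hAj ▸ Finset.mem_singleton_self j
  obtain ⟨hjs, hji⟩ := hmem hAs j hjA
  rw [le_antisymm hA1 hA1', pow_one] at hcard hCle
  have hC4 : Nat.card C = 4 := by
    have h1 := (Nat.mul_le_mul_right (Nat.card C * Nat.card C) hFB).trans (hcard.trans (le_of_eq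
      (show 4 * 4 ^ B.card * 4 = 4 ^ B.card * 16 by ring)))
    have h2 := Nat.le_of_mul_le_mul_left h1 (by positivity)
    nlinarith
  have hFeq : Nat.card F = 4 ^ B.card := by
    rw [hC4, show 4 * 4 ^ B.card * 4 = 4 ^ B.card * (4 * 4) by ring] at hcard
    exact le_antisymm (Nat.le_of_mul_le_mul_right hcard (by norm_num)) hFB
  have hxF : ∀ m ∈ F, x j m = m := by
    intro m hm
    by_contra hne'
    have hjB : j ∉ B := fun hjB => (Finset.mem_filter.1 hjB).2 (Finset.mem_filter.1 hjA).2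
    have h1 := hFle (insert j B) (Finset.insert_subset (hAs hjA) hBs) fun k hk => by
      rcases Finset.mem_insert.1 hk with rfl | hk
      · exact ⟨m, hm, hne'⟩
      · exact hBmove k hk
    rw [Finset.card_insert_of_notMem hjB, pow_succ, hFeq] at h1
    have : 0 < 4 ^ B.card := by positivity
    omega
  obtain ⟨hCe, hCx, hCtriv⟩ := hrest j hjs hji
  have hN1x : ∀ k ∈ s, Inv N1 (x k) := fun k hk => (inv_parts (h.xcomm k hk i hi) (hN _)).2
  have hN1e : ∀ k ∈ ({i, j} : Finset ι), Inv N1 (e k) := by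
    intro k hk
    rcases Finset.mem_insert.1 hk with rfl | hk
    · exact (inv_parts_of_inv (h.inv k hi) (hN _) (hN _)).2
    · rw [Finset.mem_singleton.1 hk]; exact (inv_parts (h.fix j hjs i hi hji) (hN _)).2
  have hfixi : ∀ c ∈ N1, x i c = c → c = 1 := by
    intro c hc hxc
    have h1 : c ∈ (mov (x i)).ker ⊓ N1 := mem_inf.2 ⟨mem_ker_mov.2 hxc, hc⟩
    rw [ker_inf_map_mov hM ⊤ (h.xodd i hi), mem_bot] at h1
    exact h1
  have hmoveC : ∃ m ∈ C, x j m ≠ m := by
    obtain ⟨m, hm, hne'⟩ := (Finset.mem_filter.1 hjA).2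
    by_contra hcon
    push Not at hcon
    exact hne' (hCtriv hcon m hm)
  have hfixC : ∀ c ∈ C, x j c = c → c = 1 := fun c hc =>
    fpf_of_card_four hM hCx (h.xodd j hjs) hC4 hmoveC hc
  have hN1card : Nat.card N1 = 16 := by rw [hcardC, hC4]
  have hfixj : ∀ c ∈ N1, x j c = c → c = 1 := by
    let ψ : C × C → N1 := fun p => ⟨(p.1 : M) * x i p.2, mul_mem p.1.2.1 (hN1x i hi _ p.2.2.1)⟩
    have hψ : Function.Injective ψ := by
      rintro ⟨a, b⟩ ⟨a', b'⟩ hab
      have h1 : (a : M) * x i b = a' * x i b' := congrArg Subtype.val hab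
      have h2 : x i ((b : M) * (b' : M)⁻¹) = (a : M)⁻¹ * a' := by
        have e3 : x i (b : M) = (a : M)⁻¹ * a' * x i b' := by rw [mul_assoc, ← h1, inv_mul_cancel_left]
        rw [map_mul, map_inv, e3, mul_inv_cancel_right]
      have h3 := hdis _ (mul_mem b.2 (inv_mem b'.2)) _ (mul_mem (inv_mem a.2) a'.2) h2
      have hb : b = b' := Subtype.ext (mul_inv_eq_one.1 h3)
      subst hb
      exact Prod.ext (Subtype.ext (mul_right_cancel h1)) rfl
    intro c hc hxc
    obtain ⟨⟨a, b⟩, hab⟩ := (hψ.bijective_of_nat_card_le (by rw [Nat.card_prod, hcardC])).2 ⟨c, hc⟩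
    have h1 : ψ (⟨x j a, hCx a a.2⟩, ⟨x j b, hCx b b.2⟩) = ψ (a, b) := by
      refine Subtype.ext ?_
      show x j (a : M) * x i (x j b) = a * x i b
      rw [← apply_of_mul_eq (h.xcomm j hjs i hi), ← map_mul,
        show (a : M) * x i b = c from congrArg Subtype.val hab, hxc]
    have h2 := hψ h1
    rw [← show (a : M) * x i b = c from congrArg Subtype.val hab,
      hfixC a a.2 (congrArg Subtype.val (congrArg Prod.fst h2)),
      hfixC b b.2 (congrArg Subtype.val (congrArg Prod.snd h2)), map_one, mul_one]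
  -- a fixed point of `e j` in `C`
  obtain ⟨c, hcC, hce, hc1⟩ : ∃ c ∈ C, e j c = c ∧ c ≠ 1 := by
    obtain ⟨m, hm, hm1⟩ : ∃ m ∈ C, m ≠ 1 := by
      obtain ⟨m, hm, hne'⟩ := hmoveC
      exact ⟨m, hm, fun h0 => hne' (by rw [h0, map_one])⟩
    by_cases hfe : e j m = m
    · exact ⟨m, hm, hfe, hm1⟩
    · refine ⟨mov (e j) m, mov_mem hCe hm, ?_, fun h0 => hfe (mem_ker_mov.1 h0)⟩
      rw [mov_apply, map_mul, map_inv, ← MulAut.mul_apply, h.esq j hjs, MulAut.one_apply,
        inv_eq hM m, inv_eq hM (e j m), mul_comm]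
  have hcN1 : c ∈ N1 := hcC.1
  -- the fixed points of `e j`
  obtain ⟨hcardD, -, hrestD⟩ := (h.subset (t := {i, j}) (Finset.insert_subset hi
    (Finset.singleton_subset_iff.2 hjs))).moved hM hN1e
    (fun k hk => hN1x k (by rcases Finset.mem_insert.1 hk with rfl | hk
                            · exact hi
                            · rw [Finset.mem_singleton.1 hk]; exact hjs))
    (Finset.mem_insert_of_mem (Finset.mem_singleton_self j)) rfl
  have hmapj : N1.map (mov (x j)) = N1 := by
    refine Subgroup.eq_of_le_of_card_ge (map_mov_le (hN1x j hjs)) ?_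
    have h1 : N1 ⊓ (mov (x j)).ker = ⊥ := by
      rw [eq_bot_iff]; exact fun m hm => mem_bot.2 (hfixj m hm.1 (mem_ker_mov.1 hm.2))
    rw [card_mov N1 (x j), h1, Subgroup.card_bot, one_mul]
  rw [hmapj] at hcardD hrestD
  obtain ⟨-, hDx, -⟩ := hrestD i (Finset.mem_insert_self i _) (Ne.symm hji)
  have hD4 : Nat.card ↥(N1 ⊓ (mov (e j)).ker) = 4 := by rw [hN1card] at hcardD; nlinarith
  have hxi2 : x i (x i c) = c * x i c :=
    sq_apply_of_card_four hM hDx (h.xodd i hi) hD4 (fun d hd => hfixi d hd.1)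
      (mem_inf.2 ⟨hcN1, mem_ker_mov.2 hce⟩) hc1
  have hxj2 : x j (x j c) = c * x j c :=
    sq_apply_of_card_four hM hCx (h.xodd j hjs) hC4 hfixC hcC hc1
  set v := c * x i c * x j c with hv
  have hv1 : v ≠ 1 := by
    intro h0
    have h2 : x i c = c * x j c := by
      have e1 := mul_eq_one_iff_eq_inv.1 h0
      rw [inv_eq hM] at e1
      rw [← e1, ← mul_assoc, ← pow_two, hM, one_mul]
    exact hc1 (hdis c hcC _ (mul_mem hcC (hCx c hcC)) h2)
  have hveq : x j v = x i v := by
    rw [hv]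
    simp only [map_mul]
    rw [hxi2, hxj2, apply_of_mul_eq (h.xcomm j hjs i hi)]
    calc x j c * x i (x j c) * (c * x j c) = x i (x j c) * c * (x j c * x j c) := by
          simp only [mul_comm, mul_left_comm, mul_assoc]
      _ = x i (x j c) * c * (x i c * x i c) := by rw [← pow_two, ← pow_two, hM, hM]
      _ = x i c * (c * x i c) * x i (x j c) := by simp only [mul_comm, mul_left_comm, mul_assoc]
  set y := (x i)⁻¹ * x j with hy
  have hyv : y v = v := by
    rw [hy, MulAut.mul_apply, hveq, ← MulAut.mul_apply, inv_mul_cancel, MulAut.one_apply]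
  have hyN1 : Inv N1 y := by
    intro m hm
    obtain ⟨k, hk⟩ := Finite.surjective_of_injective
      (f := fun a : N1 => (⟨x i a, hN1x i hi a a.2⟩ : N1))
      (fun a b hab => Subtype.ext ((x i).injective (congrArg Subtype.val hab))) ⟨x j m, hN1x j hjs m hm⟩
    have h1 : x i (k : M) = x j m := congrArg Subtype.val hk
    rw [hy, MulAut.mul_apply, ← h1, ← MulAut.mul_apply, inv_mul_cancel, MulAut.one_apply]
    exact k.2
  have hcomm : Commute (x i)⁻¹ (x j) := (Commute.inv_left (h.xcomm i hi j hjs))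
  have hyodd : Odd (orderOf y) := by
    refine Odd.of_dvd_nat ?_ (hcomm.orderOf_mul_dvd_mul_orderOf)
    rw [orderOf_inv]
    exact (h.xodd i hi).mul (h.xodd j hjs)
  refine ⟨y, mul_mem (inv_mem (hcl i hi)) (hcl j hjs), hyodd, ?_⟩
  have hyc : y c ≠ c := by
    intro h0
    have h1 : x j c = x i c := by
      have := congrArg (x i) h0
      rwa [hy, ← MulAut.mul_apply, mul_inv_cancel_left] at this
    exact hc1 (hdis c hcC _ (hCx c hcC) h1.symm)
  have hr := card_mov (⊤ : Subgroup M) y
  rw [← MonoidHom.range_eq_map, Nat.card_congr Subgroup.topEquiv.toEquiv, hMF, hN1card] at hr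
  set K := (⊤ : Subgroup M) ⊓ (mov y).ker with hK
  set L := N1 ⊓ (mov y).ker with hL
  have hLx : Inv L (x j) :=
    (inv_parts (show x j * y = y * x j by
      rw [hy, ← mul_assoc, ← hcomm.eq]) (hN1x j hjs)).1
  have hL4 : 4 ≤ Nat.card L := by
    have hvL : v ∈ L := mem_inf.2
      ⟨mul_mem (mul_mem hcN1 (hN1x i hi c hcN1)) (hN1x j hjs c hcN1), mem_ker_mov.2 hyv⟩
    have hdvd : Nat.card L ∣ 2 ^ 4 := by
      rw [show (2 : ℕ) ^ 4 = Nat.card N1 by rw [hN1card]; rfl]
      exact card_dvd_of_le inf_le_left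
    obtain ⟨k, hk, hk'⟩ := (Nat.dvd_prime_pow Nat.prime_two).1 hdvd
    rcases k with _ | _ | k
    · rw [pow_zero] at hk'
      rw [eq_bot_of_card_eq _ hk', mem_bot] at hvL
      exact absurd hvL hv1
    · exact absurd (hfixj v hvL.1 (fixed_of_card_two hLx (by simpa using hk') hvL)) hv1
    · rw [hk', show k + 1 + 1 = k + 2 from rfl, pow_add]
      exact Nat.le_mul_of_pos_left _ (by positivity)
  have hKge : Nat.card F * Nat.card L ≤ Nat.card K := by
    let φ : F × L → K := fun p => ⟨(p.1 : M) * p.2, mem_inf.2 ⟨mem_top _, mul_mem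
      (mem_ker_mov.2 (by
        rw [hy, MulAut.mul_apply, hxF _ p.1.2]
        conv_lhs => rw [← mem_ker_mov.1 p.1.2.2]
        rw [← MulAut.mul_apply, inv_mul_cancel, MulAut.one_apply]))
      p.2.2.2⟩⟩
    rw [← Nat.card_prod]
    refine Nat.card_le_card_of_injective φ ?_
    rintro ⟨a, b⟩ ⟨a', b'⟩ hab
    have h1 : (a : M) * b = a' * b' := congrArg Subtype.val hab
    have h2 : (b : M) * (b' : M)⁻¹ = (a : M)⁻¹ * a' := by
      have e3 : (b : M) = (a : M)⁻¹ * a' * b' := by rw [mul_assoc, ← h1, inv_mul_cancel_left]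
      conv_lhs => rw [e3]
      rw [mul_inv_cancel_right]
    have h3 : (b : M) * (b' : M)⁻¹ = 1 :=
      hfixi _ (mul_mem b.2.1 (inv_mem b'.2.1))
        (by rw [h2, map_mul, map_inv, mem_ker_mov.1 a.2.2, mem_ker_mov.1 a'.2.2])
    have hb : b = b' := Subtype.ext (mul_inv_eq_one.1 h3)
    subst hb
    exact Prod.ext (Subtype.ext (mul_right_cancel h1)) rfl
  have hle : Nat.card (mov y).range ≤ 4 := by
    have h1 := (Nat.mul_le_mul_right (Nat.card (mov y).range)
      ((Nat.mul_le_mul_left _ hL4).trans hKge)).trans hr.ge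
    rw [mul_assoc] at h1
    have := Nat.le_of_mul_le_mul_left h1 Nat.card_pos
    omega
  have hmem : mov y c ∈ (mov y).range := ⟨c, rfl⟩
  have hne1 : mov y c ≠ 1 := fun h0 => hyc (mem_ker_mov.1 h0)
  haveI : Finite (mov y).range := inferInstance
  have hord : orderOf (⟨mov y c, hmem⟩ : (mov y).range) = 2 :=
    orderOf_eq_prime (Subtype.ext (hM _)) fun h0 => hne1 (congrArg Subtype.val h0)
  have hdvd : 2 ∣ Nat.card (mov y).range := hord ▸ orderOf_dvd_natCard _
  have hne2 : Nat.card (mov y).range ≠ 2 := by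
    intro h0
    have hi2 : Inv (mov y).range y := by
      rintro _ ⟨m, rfl⟩; exact ⟨y m, (commute_mov rfl m).symm⟩
    exact hne1 (eq_one_of_mov_fixed hM hyodd (fixed_of_card_two hi2 h0 hmem))
  have := Nat.card_pos (α := (mov y).range)
  omega

/-- An anisotropic quadratic map preserved by an element of odd order moving only a four group has a fibre
with at most three elements. -/
theorem fibre_le_three (hM : ∀ m : M, m ^ 2 = 1) {V : Type*} [CommGroup V] (q : M → V)
    (hq : ∀ m, q m = 1 → m = 1) (hq1 : q 1 = 1) (hqV : ∀ m, q m * q m = 1)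
    (β : M → M → V) (hqm : ∀ a b, q (a * b) = q a * q b * β a b)
    (hβ : ∀ a b c, β a (b * c) = β a b * β a c) {y : MulAut M} (hy : Odd (orderOf y))
    (hyq : ∀ m, q (y m) = q m) (hcard : Nat.card (mov y).range = 4) :
    ∃ v : V, v ≠ 1 ∧ Nat.card {m : M // q m = v} ≤ 3 := by
  classical
  set W := (mov y).range with hW
  have hWi : Inv W y := by rintro _ ⟨m, rfl⟩; exact ⟨y m, (commute_mov rfl m).symm⟩
  have hfix : ∀ w ∈ W, y w = w → w = 1 := by
    rintro _ ⟨m, rfl⟩ h; exact eq_one_of_mov_fixed hM hy h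
  obtain ⟨w, hw, hw1⟩ : ∃ w ∈ W, w ≠ 1 := by
    by_contra hcon
    push Not at hcon
    have : W = ⊥ := eq_bot_iff.2 fun m hm => mem_bot.2 (hcon m hm)
    rw [this, Subgroup.card_bot] at hcard
    omega
  have hyy : y (y w) = w * y w := sq_apply_of_card_four hM hWi hy hcard hfix hw hw1
  refine ⟨q w, fun h => hw1 (hq w h), ?_⟩
  have hβfix : ∀ f, y f = f → ∀ u ∈ W, β f u = 1 := by
    rintro f hf _ ⟨a, rfl⟩
    have h1 : β f (y a) = β f a := by
      have e1 := hqm f (y a)
      rw [show f * y a = y (f * a) by rw [map_mul, hf], hyq, hyq, hqm] at e1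
      exact (mul_left_cancel e1).symm
    have hβi : β f a⁻¹ = β f a := by rw [inv_eq hM]
    rw [mov_apply, hβ, hβi, h1, ← hβ, ← pow_two, hM]
    have h2 := hβ f 1 1
    rw [one_mul] at h2
    exact left_eq_mul.1 h2
  haveI : Fintype W := Fintype.ofFinite W
  have hqw : ∀ u ∈ W, u ≠ 1 → q u = q w := by
    intro u hu hu1
    let S : Finset W := {1, ⟨w, hw⟩, ⟨y w, hWi w hw⟩, ⟨y (y w), hWi _ (hWi w hw)⟩}
    have hS : S.card = 4 := by
      rw [Finset.card_eq_four]
      refine ⟨1, ⟨w, hw⟩, ⟨y w, hWi w hw⟩, ⟨y (y w), hWi _ (hWi w hw)⟩, ?_, ?_, ?_, ?_, ?_, ?_, rfl⟩ <;>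
        intro h <;> have h' := congrArg Subtype.val h
      · exact hw1 h'.symm
      · exact hw1 (y.injective (h'.symm.trans (map_one y).symm))
      · exact hw1 (y.injective (y.injective (by rw [map_one, map_one]; exact h'.symm)))
      · exact hw1 (hfix w hw h'.symm)
      · exact hw1 (hfix w hw (fixed_of_sq hy h'.symm))
      · exact hw1 (hfix w hw (y.injective h').symm)
    have huniv : S = Finset.univ := Finset.eq_univ_of_card S (by rw [hS, ← hcard, Nat.card_eq_fintype_card])
    have hmem : (⟨u, hu⟩ : W) ∈ S := huniv ▸ Finset.mem_univ _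
    simp only [S, Finset.mem_insert, Finset.mem_singleton] at hmem
    rcases hmem with h | h | h | h <;> have h' : u = _ := congrArg Subtype.val h <;> subst h'
    · exact absurd rfl hu1
    · rfl
    · exact hyq w
    · exact (hyq _).trans (hyq w)
  have hsub : ∀ m, q m = q w → m ∈ W ∧ m ≠ 1 := by
    intro m hm
    obtain ⟨u, hu, hmu⟩ := exists_decomp hM (N := ⊤) (fun z _ => mem_top _) hy (mem_top m)
    rw [← MonoidHom.range_eq_map] at hu
    have hf : y (m * u⁻¹) = m * u⁻¹ := mem_ker_mov.1 hmu.2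
    set f := m * u⁻¹ with hfdef
    have hmfu : f * u = m := by rw [hfdef, inv_mul_cancel_right]
    rw [← hmfu, hqm, hβfix f hf u hu, mul_one] at hm
    rcases eq_or_ne u 1 with hu1 | hu1
    · rw [hu1, hq1, mul_one] at hm
      have h1 : f * w = 1 := hq _ (by rw [hqm, hβfix f hf w hw, mul_one, hm]; exact hqV w)
      have h2 : f ∈ W := by rw [mul_eq_one_iff_eq_inv.1 h1]; exact inv_mem hw
      rw [hfix f h2 hf, one_mul] at h1
      exact absurd h1 hw1
    · rw [hqw u hu hu1, mul_eq_right] at hm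
      rw [hq f hm, one_mul] at hmfu
      exact ⟨hmfu ▸ hu, hmfu ▸ hu1⟩
  calc Nat.card {m : M // q m = q w} ≤ Nat.card {u : W // u ≠ 1} := by
        refine Nat.card_le_card_of_injective (fun m => ⟨⟨m.1, (hsub m.1 m.2).1⟩,
          fun h => (hsub m.1 m.2).2 (congrArg Subtype.val h)⟩) fun a b hab => ?_
        exact Subtype.ext (congrArg (fun u : {u : W // u ≠ 1} => ((u : W) : M)) hab)
    _ = 3 := by
        rw [Nat.card_eq_fintype_card, Fintype.card_subtype_compl, Fintype.card_subtype_eq,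
          ← Nat.card_eq_fintype_card, hcard]

end CfsgLib.PGroup.ConjInvol
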